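import Mathlib

/-!
# Permutations of `Fin n` packed in natural numbers

A permutation `g` of `Fin n` (with `n ≤ 512`) is coded by the number `enc n g = ∑ i, g i * 512 ^ i`.  Products,
inverses and conjugates are computed on the codes; all operations are written with recursors and the binary
operations of the natural numbers which the kernel evaluates fast.
-/

set_option autoImplicit false

namespace Cfsg.Agent.PG

/-- lookup of the digit `i` (nine bits) -/
def lk (P i : ℕ) : ℕ := Nat.mod (Nat.shiftRight P (Nat.mul 9 i)) 512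

/-- pack the values `f 0, …, f (n - 1)` -/
def pk (n : ℕ) (f : ℕ → ℕ) : ℕ :=
  Nat.rec 0 (fun i acc => Nat.add acc (Nat.shiftLeft (f i) (Nat.mul 9 i))) n

/-- bounded universal quantifier, written with the recursor for fast kernel evaluation -/
def allB (k : ℕ) (f : ℕ → Bool) : Bool := Nat.rec true (fun i ih => cond (f i) ih false) k

theorem allB_succ (k : ℕ) (f : ℕ → Bool) : allB (k + 1) f = cond (f k) (allB k f) false := rfl

theorem allB_iff {k : ℕ} {f : ℕ → Bool} : allB k f = true ↔ ∀ i < k, f i = true := by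
  induction k with
  | zero => exact ⟨fun _ i hi => absurd hi (Nat.not_lt_zero i), fun _ => rfl⟩
  | succ k ih =>
    rw [allB_succ]
    constructor
    · intro h i hi
      cases hk : f k with
      | false => rw [hk] at h; exact absurd h (by simp)
      | true =>
        rw [hk] at h
        rcases Nat.lt_succ_iff_lt_or_eq.1 hi with h1 | h1
        · exact ih.1 h i h1
        · rw [h1]; exact hk
    · intro h
      rw [h k (Nat.lt_succ_self k)]
      exact ih.2 fun i hi => h i (Nat.lt_succ_of_lt hi)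

theorem lk_eq (P i : ℕ) : lk P i = P / 512 ^ i % 512 := by
  show (P >>> (9 * i)) % 512 = _
  rw [Nat.shiftRight_eq_div_pow, pow_mul]
  norm_num

theorem pk_succ (n : ℕ) (f : ℕ → ℕ) : pk (n + 1) f = pk n f + f n * 512 ^ n := by
  show Nat.add (pk n f) (Nat.shiftLeft (f n) (Nat.mul 9 n)) = _
  show pk n f + (f n) <<< (9 * n) = _
  rw [Nat.shiftLeft_eq, pow_mul]
  norm_num

theorem pk_zero (f : ℕ → ℕ) : pk 0 f = 0 := rfl

theorem pk_eq_sum (n : ℕ) (f : ℕ → ℕ) : pk n f = ∑ i ∈ Finset.range n, f i * 512 ^ i := by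
  induction n with
  | zero => rfl
  | succ n ih => rw [pk_succ, Finset.sum_range_succ, ih]

theorem pk_congr {n : ℕ} {f f' : ℕ → ℕ} (h : ∀ i < n, f i = f' i) : pk n f = pk n f' := by
  rw [pk_eq_sum, pk_eq_sum]
  exact Finset.sum_congr rfl fun i hi => by rw [h i (Finset.mem_range.1 hi)]

theorem pk_lt {n : ℕ} {f : ℕ → ℕ} (h : ∀ i < n, f i < 512) : pk n f < 512 ^ n := by
  induction n with
  | zero => rw [pk_zero]; norm_num
  | succ n ih =>
    rw [pk_succ, pow_succ]
    have h1 := ih fun i hi => h i (Nat.lt_succ_of_lt hi)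
    have h2 := h n (Nat.lt_succ_self n)
    nlinarith [pow_pos (show (0:ℕ) < 512 by norm_num) n]

theorem lk_pk {n : ℕ} {f : ℕ → ℕ} (h : ∀ i < n, f i < 512) {i : ℕ} (hi : i < n) :
    lk (pk n f) i = f i := by
  induction n with
  | zero => exact absurd hi (Nat.not_lt_zero i)
  | succ n ih =>
    have hlt := pk_lt fun j hj => h j (Nat.lt_succ_of_lt hj)
    rw [lk_eq, pk_succ]
    rcases Nat.lt_succ_iff_lt_or_eq.1 hi with h1 | h1
    · have e : f n * 512 ^ n = 512 ^ i * (f n * 512 ^ (n - i)) := by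
        rw [mul_left_comm, ← pow_add]
        congr 2
        omega
      rw [e, Nat.add_mul_div_left _ _ (pow_pos (by norm_num) _)]
      have e2 : f n * 512 ^ (n - i) = 512 * (f n * 512 ^ (n - i - 1)) := by
        rw [mul_left_comm, ← pow_succ']
        congr 2
        omega
      rw [e2, Nat.add_mul_mod_self_left, ← lk_eq]
      exact ih (fun j hj => h j (Nat.lt_succ_of_lt hj)) h1
    · rw [h1, Nat.add_mul_div_right _ _ (pow_pos (by norm_num) _), Nat.div_eq_of_lt hlt, zero_add]
      exact Nat.mod_eq_of_lt (h n (Nat.lt_succ_self n))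

theorem lk_succ (P i : ℕ) : lk P (i + 1) = lk (P / 512) i := by
  rw [lk_eq, lk_eq, pow_succ', Nat.div_div_eq_div_mul]

theorem eq_of_lk {n : ℕ} : ∀ {A B : ℕ}, A < 512 ^ n → B < 512 ^ n → (∀ i < n, lk A i = lk B i) → A = B := by
  induction n with
  | zero =>
    intro A B hA hB _
    rw [pow_zero, Nat.lt_one_iff] at hA hB
    rw [hA, hB]
  | succ n ih =>
    intro A B hA hB h
    have h0 := h 0 (Nat.succ_pos n)
    rw [lk_eq, lk_eq, pow_zero, Nat.div_one, Nat.div_one] at h0
    have h1 : A / 512 = B / 512 := by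
      apply ih
      · rw [Nat.div_lt_iff_lt_mul (by norm_num), ← pow_succ]; exact hA
      · rw [Nat.div_lt_iff_lt_mul (by norm_num), ← pow_succ]; exact hB
      · intro i hi
        rw [← lk_succ, ← lk_succ]
        exact h (i + 1) (Nat.succ_lt_succ hi)
    rw [← Nat.div_add_mod A 512, ← Nat.div_add_mod B 512, h0, h1]

/-! ### codes of permutations -/

/-- the values of a permutation, as a function on the natural numbers -/
def val {n : ℕ} (g : Equiv.Perm (Fin n)) (i : ℕ) : ℕ := if h : i < n then (g ⟨i, h⟩ : ℕ) else 0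

theorem val_lt {n : ℕ} (g : Equiv.Perm (Fin n)) {i : ℕ} (h : i < n) : val g i < n := by
  simp only [val, dif_pos h]; exact (g ⟨i, h⟩).2

theorem val_fin {n : ℕ} (g : Equiv.Perm (Fin n)) (i : Fin n) : val g i = (g i : ℕ) := by
  simp only [val, dif_pos i.2]

theorem val_mul {n : ℕ} (g h : Equiv.Perm (Fin n)) {i : ℕ} (hi : i < n) : val (g * h) i = val g (val h i) := by
  have h1 : val h i = ((h ⟨i, hi⟩ : Fin n) : ℕ) := by simp only [val, dif_pos hi]
  have h2 : val (g * h) i = (((g * h) ⟨i, hi⟩ : Fin n) : ℕ) := by simp only [val, dif_pos hi]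
  rw [h2, h1, Equiv.Perm.mul_apply, ← val_fin]

/-- the code of a permutation -/
def enc (n : ℕ) (g : Equiv.Perm (Fin n)) : ℕ := pk n (val g)

variable {n : ℕ}

theorem enc_lt (hn : n ≤ 512) (g : Equiv.Perm (Fin n)) : enc n g < 512 ^ n :=
  pk_lt fun _ hi => lt_of_lt_of_le (val_lt g hi) hn

theorem lk_enc (hn : n ≤ 512) (g : Equiv.Perm (Fin n)) {i : ℕ} (hi : i < n) : lk (enc n g) i = val g i :=
  lk_pk (fun _ hj => lt_of_lt_of_le (val_lt g hj) hn) hi

theorem lk_enc_fin (hn : n ≤ 512) (g : Equiv.Perm (Fin n)) (i : Fin n) : lk (enc n g) i = (g i : ℕ) := by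
  rw [lk_enc hn g i.2, val_fin]

theorem enc_injective (hn : n ≤ 512) : Function.Injective (enc n) := by
  intro g h e
  refine Equiv.ext fun i => Fin.ext ?_
  rw [← lk_enc_fin hn, ← lk_enc_fin hn, e]

/-- product of codes -/
def pmul (n A B : ℕ) : ℕ := pk n fun i => lk A (lk B i)

/-- inverse of a code -/
def pinv (n A : ℕ) : ℕ := Nat.rec 0 (fun i acc => Nat.add acc (Nat.shiftLeft i (Nat.mul 9 (lk A i)))) n

/-- the code of the identity -/
def pone (n : ℕ) : ℕ := pk n fun i => i

theorem pmul_enc (hn : n ≤ 512) (g h : Equiv.Perm (Fin n)) : pmul n (enc n g) (enc n h) = enc n (g * h) := by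
  apply pk_congr
  intro i hi
  rw [lk_enc hn h hi, lk_enc hn g (val_lt h hi), val_mul g h hi]

theorem pone_eq : pone n = enc n 1 := by
  apply pk_congr
  intro i hi
  rw [val, dif_pos hi]
  rfl

theorem pinv_eq_sum (n A : ℕ) : pinv n A = ∑ i ∈ Finset.range n, i * 512 ^ lk A i := by
  induction n with
  | zero => rfl
  | succ n ih =>
    rw [Finset.sum_range_succ, ← ih]
    show pinv n A + n <<< (9 * lk A n) = _
    rw [Nat.shiftLeft_eq, pow_mul]
    norm_num

theorem pinv_enc (hn : n ≤ 512) (g : Equiv.Perm (Fin n)) : pinv n (enc n g) = enc n g⁻¹ := by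
  have e : enc n g⁻¹ = ∑ i : Fin n, val g⁻¹ i * 512 ^ (i : ℕ) := by
    rw [enc, pk_eq_sum, Finset.sum_range]
  rw [pinv_eq_sum, e, Finset.sum_range]
  rw [← Equiv.sum_comp g⁻¹ (fun i : Fin n => (i : ℕ) * 512 ^ lk (enc n g) i)]
  apply Finset.sum_congr rfl
  intro i _
  rw [lk_enc_fin hn, val_fin]
  simp

/-- conjugate of a code, given the code of the inverse -/
def pconj (n G Gi T : ℕ) : ℕ := pmul n (pmul n G T) Gi

theorem pconj_enc (hn : n ≤ 512) (g t : Equiv.Perm (Fin n)) :
    pconj n (enc n g) (enc n g⁻¹) (enc n t) = enc n (g * t * g⁻¹) := by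
  rw [pconj, pmul_enc hn, pmul_enc hn]

/-! ### decoding -/

/-- the number is the code of a permutation -/
def IsCode (n c : ℕ) : Prop := ∃ g : Equiv.Perm (Fin n), enc n g = c

/-- the permutation of a code -/
noncomputable def dec (n c : ℕ) : Equiv.Perm (Fin n) :=
  open Classical in if h : IsCode n c then h.choose else 1

theorem enc_dec {c : ℕ} (h : IsCode n c) : enc n (dec n c) = c := by
  rw [dec, dif_pos h]; exact h.choose_spec

theorem dec_enc (hn : n ≤ 512) (g : Equiv.Perm (Fin n)) : dec n (enc n g) = g :=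
  enc_injective hn (enc_dec ⟨g, rfl⟩)

/-- the test that `c` is a code, with the code of the inverse -/
def codeOK (n c c' : ℕ) : Bool :=
  Nat.blt c (Nat.pow 512 n) &&
    allB n fun i => cond (Nat.blt (lk c i) n) (Nat.beq (lk c' (lk c i)) i) false

theorem isCode_of_codeOK (hn : n ≤ 512) {c c' : ℕ} (h : codeOK n c c' = true) : IsCode n c := by
  rw [codeOK, Bool.and_eq_true, allB_iff] at h
  obtain ⟨h0, h1⟩ := h
  have hlt : c < 512 ^ n := by simpa [Nat.blt] using h0
  have h2 : ∀ i < n, lk c i < n ∧ lk c' (lk c i) = i := by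
    intro i hi
    have := h1 i hi
    cases hb : Nat.blt (lk c i) n with
    | false => rw [hb] at this; exact absurd this (by simp)
    | true =>
      rw [hb] at this
      exact ⟨by simpa [Nat.blt] using hb, Nat.eq_of_beq_eq_true this⟩
  let f : Fin n → Fin n := fun i => ⟨lk c i, (h2 i i.2).1⟩
  have hf : Function.Injective f := by
    intro i j hij
    have e : lk c i = lk c j := congrArg Fin.val hij
    apply Fin.ext
    rw [← (h2 i i.2).2, ← (h2 j j.2).2, e]
  refine ⟨Equiv.ofBijective f (Finite.injective_iff_bijective.1 hf), ?_⟩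
  apply eq_of_lk (enc_lt hn _) hlt
  intro i hi
  rw [lk_enc hn _ hi, val, dif_pos hi]
  rfl

theorem dec_apply (hn : n ≤ 512) {c : ℕ} (h : IsCode n c) (i : Fin n) : ((dec n c i : Fin n) : ℕ) = lk c i := by
  rw [← lk_enc_fin hn, enc_dec h]

end Cfsg.Agent.PG
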