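import Cfsg.Agent.Lib.Lead.PG.Slp

/-!
# A lower bound for the order of a permutation group from a chain of partial transversals
-/

set_option autoImplicit false

namespace Cfsg.Agent.PG

/-- the test of the absence of repetitions -/
def nodupB : List ℕ → Bool
  | [] => true
  | a :: l => cond (l.contains a) false (nodupB l)

theorem nodupB_sound : ∀ {l : List ℕ}, nodupB l = true → l.Nodup
  | [], _ => List.nodup_nil
  | a :: l, h => by
    rw [nodupB] at h
    cases hc : l.contains a with
    | true => rw [hc] at h; exact absurd h (by simp)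
    | false =>
      rw [hc] at h
      refine List.nodup_cons.2 ⟨?_, nodupB_sound h⟩
      intro hm
      rw [← List.contains_iff_mem] at hm
      rw [hm] at hc
      exact absurd hc (by simp)

variable {n : ℕ}

/-- the elements of `H` fixing the points of a list -/
def fixer (H : Subgroup (Equiv.Perm (Fin n))) (xs : List ℕ) : Subgroup (Equiv.Perm (Fin n)) where
  carrier := {g | g ∈ H ∧ ∀ x ∈ xs, ∀ h : x < n, g ⟨x, h⟩ = ⟨x, h⟩}
  one_mem' := ⟨H.one_mem, fun _ _ _ => rfl⟩
  mul_mem' := by
    rintro a b ⟨ha, ha'⟩ ⟨hb, hb'⟩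
    refine ⟨H.mul_mem ha hb, fun x hx h => ?_⟩
    rw [Equiv.Perm.mul_apply, hb' x hx h, ha' x hx h]
  inv_mem' := by
    rintro a ⟨ha, ha'⟩
    refine ⟨H.inv_mem ha, fun x hx h => ?_⟩
    rw [Equiv.Perm.inv_eq_iff_eq, ha' x hx h]

theorem mem_fixer {H : Subgroup (Equiv.Perm (Fin n))} {xs : List ℕ} {g : Equiv.Perm (Fin n)} :
    g ∈ fixer H xs ↔ g ∈ H ∧ ∀ x ∈ xs, ∀ h : x < n, g ⟨x, h⟩ = ⟨x, h⟩ := Iff.rfl

theorem fixer_nil (H : Subgroup (Equiv.Perm (Fin n))) : fixer H [] = H := by
  ext g
  rw [mem_fixer]
  exact ⟨fun h => h.1, fun h => ⟨h, fun _ hx => absurd hx List.not_mem_nil⟩⟩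

theorem card_ge_step (K K' : Subgroup (Equiv.Perm (Fin n))) (b : Fin n) (U : List (Equiv.Perm (Fin n)))
    (hU : ∀ u ∈ U, u ∈ K) (hnd : (U.map fun u => u b).Nodup) (hK' : ∀ g, g ∈ K' ↔ g ∈ K ∧ g b = b) :
    U.length * Nat.card K' ≤ Nat.card K := by
  have e1 : K' = (MulAction.stabilizer K b).map K.subtype := by
    ext g
    rw [hK']
    constructor
    · rintro ⟨hg, hb⟩
      exact ⟨⟨g, hg⟩, MulAction.mem_stabilizer_iff.2 hb, rfl⟩
    · rintro ⟨c, hc, rfl⟩
      exact ⟨c.2, MulAction.mem_stabilizer_iff.1 hc⟩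
  have h1 := Subgroup.card_mul_index (MulAction.stabilizer K b)
  have h2 : (MulAction.stabilizer K b).index = (MulAction.orbit K b).ncard :=
    MulAction.index_stabilizer K b
  have h4 : Nat.card ((MulAction.stabilizer K b).map K.subtype) = Nat.card (MulAction.stabilizer K b) :=
    Subgroup.card_map_of_injective K.subtype_injective
  have h3 : U.length ≤ (MulAction.orbit K b).ncard := by
    have hsub : ((U.map fun u => u b).toFinset : Set (Fin n)) ⊆ MulAction.orbit K b := by
      intro y hy
      rw [Finset.mem_coe, List.mem_toFinset, List.mem_map] at hy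
      obtain ⟨u, hu, rfl⟩ := hy
      exact ⟨⟨u, hU u hu⟩, rfl⟩
    have := Set.ncard_le_ncard hsub (Set.toFinite _)
    rw [Set.ncard_coe_finset, List.toFinset_card_of_nodup hnd, List.length_map] at this
    exact this
  rw [e1, h4, ← h1, h2, mul_comm]
  exact Nat.mul_le_mul_left _ h3

/-- the test of a chain: the codes of each level fix the earlier base points and move the base point of the level
to different points -/
def chainOK (n : ℕ) : List ℕ → List ℕ → List (List ℕ) → Bool
  | fixed, b :: bs, U :: Us =>
    Nat.blt b n && (U.all fun c => fixed.all fun x => Nat.beq (lk c x) x) &&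
      nodupB (U.map fun c => lk c b) && chainOK n (b :: fixed) bs Us
  | _, [], [] => true
  | _, _, _ => false

theorem chain_sound (hn : n ≤ 512) (H : Subgroup (Equiv.Perm (Fin n))) :
    ∀ (bs fixed : List ℕ) (Us : List (List ℕ)), chainOK n fixed bs Us = true →
      (∀ U ∈ Us, ∀ c ∈ U, ∃ g ∈ H, enc n g = c) → (Us.map List.length).prod ≤ Nat.card (fixer H fixed) := by
  intro bs
  induction bs with
  | nil =>
    intro fixed Us h _
    cases Us with
    | nil =>
      rw [List.map_nil, List.prod_nil]
      exact Nat.card_pos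
    | cons U Us => simp [chainOK] at h
  | cons b bs ih =>
    intro fixed Us h hc
    cases Us with
    | nil => simp [chainOK] at h
    | cons U Us =>
      rw [chainOK, Bool.and_eq_true, Bool.and_eq_true, Bool.and_eq_true, List.all_eq_true] at h
      obtain ⟨⟨⟨hb, hfix⟩, hnd⟩, hrest⟩ := h
      have hb' : b < n := by simpa [Nat.blt] using hb
      have ih' := ih (b :: fixed) Us hrest fun U' hU' => hc U' (List.mem_cons_of_mem _ hU')
      have hdec : ∀ c ∈ U, dec n c ∈ H ∧ enc n (dec n c) = c := by
        intro c hcU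
        obtain ⟨g, hg, rfl⟩ := hc U List.mem_cons_self c hcU
        rw [dec_enc hn]
        exact ⟨hg, rfl⟩
      have step := card_ge_step (fixer H fixed) (fixer H (b :: fixed)) ⟨b, hb'⟩ (U.map (dec n)) ?_ ?_ ?_
      · rw [List.map_cons, List.prod_cons]
        rw [List.length_map] at step
        exact le_trans (Nat.mul_le_mul_left _ ih') step
      · intro u hu
        rw [List.mem_map] at hu
        obtain ⟨c, hcU, rfl⟩ := hu
        refine ⟨(hdec c hcU).1, fun x hx hxn => Fin.ext ?_⟩
        rw [← lk_enc_fin hn, (hdec c hcU).2]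
        have := hfix c hcU
        rw [List.all_eq_true] at this
        exact Nat.eq_of_beq_eq_true (this x hx)
      · rw [List.map_map]
        have hnd' := nodupB_sound hnd
        refine (List.Nodup.of_map (fun y : Fin n => (y : ℕ)) ?_)
        rw [List.map_map]
        have : U.map ((fun y : Fin n => (y : ℕ)) ∘ ((fun u => u ⟨b, hb'⟩) ∘ dec n)) = U.map fun c => lk c b := by
          apply List.map_congr_left
          intro c hcU
          show ((dec n c ⟨b, hb'⟩ : Fin n) : ℕ) = lk c b
          rw [← lk_enc_fin hn, (hdec c hcU).2]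
        rw [this]
        exact hnd'
      · intro g
        rw [mem_fixer, mem_fixer]
        constructor
        · rintro ⟨hg, hx⟩
          exact ⟨⟨hg, fun x hx' h => hx x (List.mem_cons_of_mem _ hx') h⟩, hx b List.mem_cons_self hb'⟩
        · rintro ⟨⟨hg, hx⟩, hgb⟩
          refine ⟨hg, fun x hx' h => ?_⟩
          rcases List.mem_cons.1 hx' with rfl | hx''
          · exact hgb
          · exact hx x hx'' h

end Cfsg.Agent.PG
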