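import Cfsg.Agent.Lib.Lead.PG.Forest
import Cfsg.Agent.Lib.Lead.PG.Chain

/-!
# Involutions of a permutation group: a Sylow 2-subgroup from a list of codes, closure of a list of trees under
conjugation, and the presence of all involutions in the trees
-/

set_option autoImplicit false
set_option linter.unusedSectionVars false

namespace Cfsg.Agent.PG

open Cfsg.Agent.J3O

section

variable {n : ℕ} (hn : n ≤ 512) {P : Subgroup (Equiv.Perm (Fin n))}

/-! ### closure under conjugation -/

/-- the test of closure under conjugation by the two generators -/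
def pconjT (n ca cai cb cbi : ℕ) (forest : List (ℕ × CT)) (c : ℕ) : Bool :=
  memFL (pconj n ca cai c) forest && memFL (pconj n cb cbi c) forest

variable {a b : ↥P} {ca cai cb cbi : ℕ}
  (ha : enc n a.1 = ca) (hai : enc n (a⁻¹).1 = cai) (hb : enc n b.1 = cb) (hbi : enc n (b⁻¹).1 = cbi)
  (hgen : Subgroup.closure {a, b} = (⊤ : Subgroup ↥P))
  {forest : List (ℕ × CT)}

include hn ha hai hb hbi hgen in
theorem conj_closed [Finite ↥P] (hall : allFL forest (pconjT n ca cai cb cbi forest) = true) (g : ↥P) :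
    ∀ {x : ↥P}, InFL forest (enc n x.1) → InFL forest (enc n (g * x * g⁻¹).1) := by
  have hg : g ∈ Submonoid.closure ({a, b} : Set ↥P) := by
    rw [← Subgroup.closure_toSubmonoid_of_finite, hgen]
    exact Subgroup.mem_top g
  induction hg using Submonoid.closure_induction with
  | mem y hy =>
    intro x hc
    have hp := allFL_sound hall hc
    rw [pconjT, Bool.and_eq_true] at hp
    rcases hy with rfl | rfl
    · have := memFL_sound hp.1
      rw [← ha, ← hai, Subgroup.coe_inv, pconj_enc hn] at this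
      exact this
    · have := memFL_sound hp.2
      rw [← hb, ← hbi, Subgroup.coe_inv, pconj_enc hn] at this
      exact this
  | one =>
    intro x hc
    simpa using hc
  | mul u v _ _ hu hv =>
    intro x hc
    have e : u * v * x * (u * v)⁻¹ = u * (v * x * v⁻¹) * u⁻¹ := by group
    rw [e]
    exact hu (hv hc)

end

/-! ### a Sylow 2-subgroup from a list of codes -/

section syl

variable {n : ℕ} (hn : n ≤ 512) {P : Subgroup (Equiv.Perm (Fin n))} [Finite ↥P]

/-- the test of the list of the codes of a subgroup: no repetitions, closed under left multiplication by the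
generators, and a test on all codes -/
def sylOK (n : ℕ) (gens D : List ℕ) (q : ℕ → Bool) : Bool :=
  D.contains (pone n) && nodupB D && (gens.all fun s => D.all fun d => D.contains (pmul n s d)) && D.all q

include hn in
/-- the list of the codes of the registers of a program is the list of the codes of a subgroup -/
theorem sylOK_sound {gs : List ↥P} {cs : List ℕ} (hgs : RegsOK P gs cs) (prog : List (ℕ × ℕ))
    (q : ℕ → Bool) (h : sylOK n cs (run n prog cs) q = true) :
    Nat.card (Subgroup.closure {g | g ∈ gs}) = (run n prog cs).length ∧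
      ∀ e ∈ Subgroup.closure {g | g ∈ gs}, q (enc n e.1) = true := by
  classical
  rw [sylOK, Bool.and_eq_true, Bool.and_eq_true, Bool.and_eq_true, List.all_eq_true, List.all_eq_true,
    List.contains_iff_mem] at h
  obtain ⟨⟨⟨h1, hnd'⟩, hcl⟩, hq⟩ := h
  have hnd := nodupB_sound hnd'
  have hrun := hgs.run hn (is := prog)
  set Dg := runM prog gs with hDg
  set D := run n prog cs with hD
  -- elements of `Dg` and codes of `D`
  have hcode : ∀ e : ↥P, e ∈ Dg ↔ enc n e.1 ∈ D := by
    intro e
    constructor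
    · intro he
      obtain ⟨i, hi, rfl⟩ := List.getElem_of_mem he
      have := hrun.getD i
      rw [List.getD_eq_getElem _ _ hi] at this
      rw [this]
      have hi' : i < D.length := by rw [← List.Forall₂.length_eq hrun]; exact hi
      rw [List.getD_eq_getElem _ _ hi']
      exact List.getElem_mem _
    · intro he
      obtain ⟨i, hi, hi2⟩ := List.getElem_of_mem he
      have hi' : i < Dg.length := by rw [List.Forall₂.length_eq hrun]; exact hi
      have := hrun.getD i
      rw [List.getD_eq_getElem _ _ hi', List.getD_eq_getElem _ _ hi, hi2] at this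
      have e2 : Dg[i] = e := Subtype.ext (enc_injective hn this)
      rw [← e2]
      exact List.getElem_mem _
  have hone : (1 : ↥P) ∈ Dg := by
    rw [hcode, Subgroup.coe_one, ← pone_eq]; exact h1
  -- base registers stay
  have hbase : ∀ g ∈ gs, g ∈ Dg := by
    have : ∀ (is : List (ℕ × ℕ)) (regs : List ↥P), ∀ g ∈ regs, g ∈ runM is regs := by
      intro is
      induction is with
      | nil => intro regs g hg; exact hg
      | cons ij is ih =>
        intro regs g hg
        rw [runM]
        exact ih _ g (List.mem_cons_of_mem _ hg)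
    exact this prog gs
  let S : Subgroup ↥P := Subgroup.closure {g | g ∈ gs}
  -- closure under left multiplication
  have hmulg : ∀ s ∈ gs, ∀ d ∈ Dg, s * d ∈ Dg := by
    intro s hs d hd
    obtain ⟨i, hi, rfl⟩ := List.getElem_of_mem hs
    have hi' : i < cs.length := by rw [← List.Forall₂.length_eq hgs]; exact hi
    have hsc : enc n (gs[i]).1 = cs[i] := by
      have := hgs.getD i
      rwa [List.getD_eq_getElem _ _ hi, List.getD_eq_getElem _ _ hi'] at this
    have := List.all_eq_true.1 (hcl cs[i] (List.getElem_mem _)) (enc n d.1) ((hcode d).1 hd)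
    rw [List.contains_iff_mem, ← hsc, pmul_enc hn] at this
    exact (hcode _).2 this
  have hSsub : ∀ g ∈ S, ∀ d ∈ Dg, g * d ∈ Dg := by
    let M : Submonoid ↥P :=
      { carrier := {g | ∀ d ∈ Dg, g * d ∈ Dg}
        one_mem' := fun d hd => by rwa [one_mul]
        mul_mem' := fun {u v} hu hv d hd => by rw [mul_assoc]; exact hu _ (hv d hd) }
    have hM : Submonoid.closure {g | g ∈ gs} ≤ M := Submonoid.closure_le.2 fun y hy => hmulg y hy
    intro g hg
    have hg' : g ∈ Submonoid.closure {g | g ∈ gs} := by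
      rw [← Subgroup.closure_toSubmonoid_of_finite]; exact hg
    exact hM hg'
  have hS1 : ∀ g ∈ S, g ∈ Dg := by
    intro g hg
    have := hSsub g hg 1 hone
    rwa [mul_one] at this
  have hS2 : ∀ g ∈ Dg, g ∈ S := by
    apply runM_mem S.toSubmonoid prog gs
    intro g hg
    exact Subgroup.subset_closure hg
  have hndg : Dg.Nodup := by
    have : (Dg.map fun e : ↥P => enc n e.1) = D := by
      apply List.ext_getElem
      · rw [List.length_map]; exact List.Forall₂.length_eq hrun
      · intro i h1 h2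
        rw [List.getElem_map]
        have hi' : i < Dg.length := by rwa [List.length_map] at h1
        have := hrun.getD i
        rwa [List.getD_eq_getElem _ _ hi', List.getD_eq_getElem _ _ h2] at this
    exact List.Nodup.of_map _ (this ▸ hnd)
  refine ⟨?_, ?_⟩
  · have e1 : (S : Set ↥P) = (Dg.toFinset : Set ↥P) := by
      ext g
      rw [Finset.mem_coe, List.mem_toFinset]
      exact ⟨hS1 g, hS2 g⟩
    have : Nat.card S = (S : Set ↥P).ncard := Nat.card_coe_set_eq _
    rw [this, e1, Set.ncard_coe_finset, List.toFinset_card_of_nodup hndg]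
    exact List.Forall₂.length_eq hrun
  · intro e he
    exact hq _ ((hcode e).1 (hS1 e he))

/-- the test on a code of the subgroup: an involution has its code in the trees -/
def qInv (n : ℕ) (forest : List (ℕ × CT)) (d : ℕ) : Bool :=
  Nat.beq d (pone n) || (!(Nat.beq (pmul n d d) (pone n)) || memFL d forest)

include hn in
theorem qInv_sound {forest : List (ℕ × CT)} {e : ↥P} (h : qInv n forest (enc n e.1) = true)
    (he : e * e = 1) (hne : e ≠ 1) : InFL forest (enc n e.1) := by
  rw [qInv, Bool.or_eq_true, Bool.or_eq_true] at h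
  rcases h with h | h | h
  · exact absurd ((enc_eq_pone_iff hn e).1 (Nat.eq_of_beq_eq_true h)) hne
  · exfalso
    rw [pmul_enc hn, ← Subgroup.coe_mul, he] at h
    have : Nat.beq (enc n ((1 : ↥P) : Equiv.Perm (Fin n))) (pone n) = true := by
      rw [(enc_eq_pone_iff hn (1 : ↥P)).2 rfl]; exact Nat.beq_refl _
    rw [this] at h
    exact absurd h (by simp)
  · exact memFL_sound h

/-- the test on a code of the subgroup: a code commuting with the generators is the identity or a given code -/
def qCen (n : ℕ) (cs : List ℕ) (cz : ℕ) (d : ℕ) : Bool :=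
  Nat.beq d (pone n) || (Nat.beq d cz || cs.any fun s => !(Nat.beq (pmul n s d) (pmul n d s)))

include hn in
theorem qCen_sound {gs : List ↥P} {cs : List ℕ} (hgs : RegsOK P gs cs) {z : ↥P} {cz : ℕ} (hz : enc n z.1 = cz)
    {e : ↥P} (h : qCen n cs cz (enc n e.1) = true) (hc : ∀ g ∈ gs, g * e = e * g) : e = 1 ∨ e = z := by
  rw [qCen, Bool.or_eq_true, Bool.or_eq_true, List.any_eq_true] at h
  rcases h with h | h | ⟨s, hs, h⟩
  · exact Or.inl ((enc_eq_pone_iff hn e).1 (Nat.eq_of_beq_eq_true h))
  · right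
    have := Nat.eq_of_beq_eq_true h
    rw [← hz] at this
    exact Subtype.ext (enc_injective hn this)
  · exfalso
    obtain ⟨i, hi, rfl⟩ := List.getElem_of_mem hs
    have hi' : i < gs.length := by rw [List.Forall₂.length_eq hgs]; exact hi
    have hsc : enc n (gs[i]).1 = cs[i] := by
      have := hgs.getD i
      rwa [List.getD_eq_getElem _ _ hi', List.getD_eq_getElem _ _ hi] at this
    rw [← hsc, pmul_enc hn, pmul_enc hn, ← Subgroup.coe_mul, ← Subgroup.coe_mul,
      hc _ (List.getElem_mem hi'), Nat.beq_refl] at h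
    exact absurd h (by simp)

end syl

/-! ### all involutions -/

section inv

variable {n : ℕ} (hn : n ≤ 512) {P : Subgroup (Equiv.Perm (Fin n))} [Finite ↥P]
  {a b : ↥P} {ca cai cb cbi : ℕ}
  (ha : enc n a.1 = ca) (hai : enc n (a⁻¹).1 = cai) (hb : enc n b.1 = cb) (hbi : enc n (b⁻¹).1 = cbi)
  (hgen : Subgroup.closure {a, b} = (⊤ : Subgroup ↥P))
  {forest : List (ℕ × CT)}

/-- a subgroup of order `2 ^ k` in a group of order `2 ^ k * m` with `m` odd, as a Sylow subgroup -/
noncomputable def toSylow2 (S : Subgroup ↥P) {k m : ℕ} (hS : Nat.card S = 2 ^ k) (hP : Nat.card ↥P = 2 ^ k * m)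
    (hm : ¬ 2 ∣ m) : Sylow 2 ↥P :=
  have : Fact (Nat.Prime 2) := ⟨Nat.prime_two⟩
  (IsPGroup.of_card hS).toSylow (by
    have h2 := Subgroup.card_mul_index S
    rw [hS, hP] at h2
    have : S.index = m := Nat.eq_of_mul_eq_mul_left (pow_pos (by norm_num) k) h2
    rw [this]; exact hm)

theorem coe_toSylow2 (S : Subgroup ↥P) {k m : ℕ} (hS : Nat.card S = 2 ^ k) (hP : Nat.card ↥P = 2 ^ k * m)
    (hm : ¬ 2 ∣ m) : ((toSylow2 S hS hP hm : Sylow 2 ↥P) : Subgroup ↥P) = S := rfl

include hn ha hai hb hbi hgen in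
/-- every involution has its code in the trees -/
theorem all_inv (hall : allFL forest (pconjT n ca cai cb cbi forest) = true) (S : Subgroup ↥P) {k m : ℕ}
    (hS : Nat.card S = 2 ^ k) (hP : Nat.card ↥P = 2 ^ k * m) (hm : ¬ 2 ∣ m)
    (hinv : ∀ e ∈ S, e * e = 1 → e ≠ 1 → InFL forest (enc n e.1))
    (y : ↥P) (hy : y ^ 2 = 1) (hne : y ≠ 1) : InFL forest (enc n y.1) := by
  have : Fact (Nat.Prime 2) := ⟨Nat.prime_two⟩
  have ho : orderOf y = 2 := orderOf_eq_prime hy hne
  have hpg : IsPGroup 2 (Subgroup.zpowers y) := by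
    apply IsPGroup.of_card (n := 1)
    rw [Nat.card_zpowers, ho, pow_one]
  obtain ⟨P', hP'⟩ := hpg.exists_le_sylow
  obtain ⟨g, hg⟩ := MulAction.exists_smul_eq ↥P P' (toSylow2 S hS hP hm)
  have hy' : y ∈ (P' : Subgroup ↥P) := hP' (Subgroup.mem_zpowers y)
  have hs : g * y * g⁻¹ ∈ S := by
    rw [← coe_toSylow2 S hS hP hm, ← hg, Sylow.coe_subgroup_smul, Subgroup.mem_smul_pointwise_iff_exists]
    exact ⟨y, hy', rfl⟩
  have h1 : (g * y * g⁻¹) * (g * y * g⁻¹) = 1 := by
    have : (g * y * g⁻¹) * (g * y * g⁻¹) = g * (y * y) * g⁻¹ := by group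
    rw [this, ← pow_two, hy]; group
  have h2 : g * y * g⁻¹ ≠ 1 := by
    intro h
    apply hne
    have : y = g⁻¹ * (g * y * g⁻¹) * g := by group
    rw [this, h]; group
  have h3 := hinv _ hs h1 h2
  have h4 := conj_closed hn ha hai hb hbi hgen hall g⁻¹ h3
  have e : g⁻¹ * (g * y * g⁻¹) * g⁻¹⁻¹ = y := by group
  rwa [e] at h4

/-- the image of a central involution of a Sylow 2-subgroup with centre of order 2 under an automorphism is a
conjugate -/
theorem aut_image_conj (S : Subgroup ↥P) {k m : ℕ}
    (hS : Nat.card S = 2 ^ k) (hP : Nat.card ↥P = 2 ^ k * m) (hm : ¬ 2 ∣ m) (z : ↥P) (hzS : z ∈ S)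
    (hz1 : z ≠ 1) (hzc : ∀ e ∈ S, e * z = z * e)
    (hcen : ∀ e ∈ S, (∀ g ∈ S, g * e = e * g) → e = 1 ∨ e = z) (φ : MulAut ↥P) :
    ∃ g : ↥P, φ z = g * z * g⁻¹ := by
  have : Fact (Nat.Prime 2) := ⟨Nat.prime_two⟩
  have hS' : Nat.card (S.map φ.toMonoidHom) = 2 ^ k := by
    rw [Subgroup.card_map_of_injective φ.injective]; exact hS
  obtain ⟨g, hg⟩ := MulAction.exists_smul_eq ↥P (toSylow2 S hS hP hm) (toSylow2 _ hS' hP hm)
  have hmem : ∀ x : ↥P, x ∈ S.map φ.toMonoidHom ↔ g⁻¹ * x * g ∈ S := by
    intro x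
    rw [← coe_toSylow2 _ hS' hP hm, ← hg, Sylow.coe_subgroup_smul, Subgroup.mem_smul_pointwise_iff_exists,
      coe_toSylow2]
    constructor
    · rintro ⟨s, hs, rfl⟩
      have : g⁻¹ * (MulAut.conj g • s) * g = s := by
        rw [MulAut.smul_def, MulAut.conj_apply]; group
      rw [this]; exact hs
    · intro h
      refine ⟨_, h, ?_⟩
      rw [MulAut.smul_def, MulAut.conj_apply]; group
  have hφz : φ z ∈ S.map φ.toMonoidHom := ⟨z, hzS, rfl⟩
  have hx := (hmem _).1 hφz
  have hxc : ∀ s ∈ S, s * (g⁻¹ * φ z * g) = (g⁻¹ * φ z * g) * s := by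
    intro s hs
    have h1 : g * s * g⁻¹ ∈ S.map φ.toMonoidHom := by
      rw [hmem]
      have : g⁻¹ * (g * s * g⁻¹) * g = s := by group
      rw [this]; exact hs
    obtain ⟨s', hs', e'⟩ := h1
    have h2 : φ s' * φ z = φ z * φ s' := by rw [← map_mul, ← map_mul, hzc s' hs']
    have e'' : φ s' = g * s * g⁻¹ := e'
    rw [e''] at h2
    calc s * (g⁻¹ * φ z * g) = g⁻¹ * ((g * s * g⁻¹) * φ z) * g := by group
      _ = g⁻¹ * (φ z * (g * s * g⁻¹)) * g := by rw [h2]
      _ = (g⁻¹ * φ z * g) * s := by group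
  rcases hcen _ hx hxc with h | h
  · exfalso
    apply hz1
    have : φ z = 1 := by
      have e : φ z = g * (g⁻¹ * φ z * g) * g⁻¹ := by group
      rw [e, h]; group
    exact (map_eq_one_iff φ φ.injective).1 this
  · refine ⟨g, ?_⟩
    have e : φ z = g * (g⁻¹ * φ z * g) * g⁻¹ := by group
    rw [e, h]

end inv

/-! ### fixed points -/

section fix

variable {n : ℕ} (hn : n ≤ 512)

/-- the permutation of the code has a fixed point -/
def hasFix (n c : ℕ) : Bool := !(allB n fun i => !(Nat.beq (lk c i) i))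

include hn in
theorem hasFix_iff (x : Equiv.Perm (Fin n)) : hasFix n (enc n x) = true ↔ ∃ i : Fin n, x i = i := by
  rw [hasFix, Bool.not_eq_true', ← Bool.not_eq_true, allB_iff]
  push Not
  constructor
  · rintro ⟨i, hi, h⟩
    rw [Ne, Bool.not_eq_true, Bool.not_eq_false'] at h
    refine ⟨⟨i, hi⟩, Fin.ext ?_⟩
    rw [← lk_enc_fin hn]
    exact Nat.eq_of_beq_eq_true h
  · rintro ⟨i, h⟩
    refine ⟨i.1, i.2, ?_⟩
    rw [Ne, Bool.not_eq_true, Bool.not_eq_false', lk_enc_fin hn, h]
    exact Nat.beq_refl _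

include hn in
theorem hasFix_conj (x g : Equiv.Perm (Fin n)) (h : hasFix n (enc n x) = true) :
    hasFix n (enc n (g * x * g⁻¹)) = true := by
  rw [hasFix_iff hn] at h ⊢
  obtain ⟨i, hi⟩ := h
  exact ⟨g i, by simp [hi]⟩

end fix

end Cfsg.Agent.PG
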