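import Cfsg.Agent.Lib.Lead.PG.Upper

/-!
# Tight chains: exact orbits, and an upper bound for the order of a centraliser

If the product of the lengths of the partial transversals of a chain equals the order of the group, then the orbit of
each base point under the stabiliser of the earlier base points is exactly the set of images under the partial
transversal. For a permutation `z` fixing the first base points, the orbit of a base point under the centraliser of
`z` consists of fixed points of `z`; this bounds the order of the centraliser from above.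
-/

set_option autoImplicit false

namespace Cfsg.Agent.PG

variable {n : ℕ}

/-- one level of a tight chain: the orbit is the set of the images under the partial transversal, and the next level
is tight -/
theorem tight_step (K K' : Subgroup (Equiv.Perm (Fin n))) (b : Fin n) (U : List (Equiv.Perm (Fin n))) (m : ℕ)
    (hU : ∀ u ∈ U, u ∈ K) (hnd : (U.map fun u => u b).Nodup) (hK' : ∀ g, g ∈ K' ↔ g ∈ K ∧ g b = b)
    (hm : m ≤ Nat.card K') (htight : Nat.card K ≤ U.length * m) :
    (∀ g ∈ K, g b ∈ U.map fun u => u b) ∧ Nat.card K' ≤ m := by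
  have e1 : K' = (MulAction.stabilizer K b).map K.subtype := by
    ext g
    rw [hK']
    constructor
    · rintro ⟨hg, hb⟩
      exact ⟨⟨g, hg⟩, MulAction.mem_stabilizer_iff.2 hb, rfl⟩
    · rintro ⟨c, hc, rfl⟩
      exact ⟨c.2, MulAction.mem_stabilizer_iff.1 hc⟩
  have h1 := Subgroup.card_mul_index (MulAction.stabilizer K b)
  have h2 : (MulAction.stabilizer K b).index = (MulAction.orbit K b).ncard :=
    MulAction.index_stabilizer K b
  have h4 : Nat.card K' = Nat.card (MulAction.stabilizer K b) := by
    rw [e1]; exact Subgroup.card_map_of_injective K.subtype_injective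
  have hsub : ((U.map fun u => u b).toFinset : Set (Fin n)) ⊆ MulAction.orbit K b := by
    intro y hy
    rw [Finset.mem_coe, List.mem_toFinset, List.mem_map] at hy
    obtain ⟨u, hu, rfl⟩ := hy
    exact ⟨⟨u, hU u hu⟩, rfl⟩
  have hcardU : ((U.map fun u => u b).toFinset : Set (Fin n)).ncard = U.length := by
    rw [Set.ncard_coe_finset, List.toFinset_card_of_nodup hnd, List.length_map]
  have h3 : U.length ≤ (MulAction.orbit K b).ncard := by
    have := Set.ncard_le_ncard hsub (Set.toFinite _)
    rwa [hcardU] at this
  set o := (MulAction.orbit K b).ncard with ho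
  set k' := Nat.card K' with hk'
  have hK : Nat.card K = k' * o := by rw [← h1, ← h4, h2]
  have hpos : 0 < Nat.card K := Nat.card_pos
  rw [hK] at htight hpos
  have hk'pos : 0 < k' := Nat.pos_of_mul_pos_right hpos
  have hopos : 0 < o := Nat.pos_of_mul_pos_left hpos
  have hmpos : 0 < m := by
    rcases Nat.eq_zero_or_pos m with h | h
    · rw [h, mul_zero] at htight; omega
    · exact h
  have hk'm : k' ≤ m := by
    by_contra hc
    have h5 : m + 1 ≤ k' := by omega
    have : U.length * m < k' * o := by
      calc U.length * m ≤ o * m := Nat.mul_le_mul_right _ h3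
        _ < o * (m + 1) := by nlinarith
        _ ≤ o * k' := Nat.mul_le_mul_left _ h5
        _ = k' * o := mul_comm _ _
    omega
  have hoL : o ≤ U.length := by
    by_contra hc
    have h5 : U.length + 1 ≤ o := by omega
    have : U.length * m < k' * o := by
      calc U.length * m < (U.length + 1) * m := by nlinarith
        _ ≤ o * m := Nat.mul_le_mul_right _ h5
        _ ≤ o * k' := Nat.mul_le_mul_left _ hm
        _ = k' * o := mul_comm _ _
    omega
  refine ⟨?_, hk'm⟩
  have heq : ((U.map fun u => u b).toFinset : Set (Fin n)) = MulAction.orbit K b := by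
    apply Set.eq_of_subset_of_ncard_le hsub _ (Set.toFinite _)
    rw [hcardU]; exact hoL
  intro g hg
  have : g b ∈ MulAction.orbit K b := ⟨⟨g, hg⟩, rfl⟩
  rw [← heq, Finset.mem_coe, List.mem_toFinset] at this
  exact this

theorem fixer_mono {H₁ H₂ : Subgroup (Equiv.Perm (Fin n))} (h : H₁ ≤ H₂) (xs : List ℕ) :
    fixer H₁ xs ≤ fixer H₂ xs := fun _ hg => ⟨h hg.1, hg.2⟩

theorem mem_fixer_cons {H : Subgroup (Equiv.Perm (Fin n))} {b : ℕ} (hb : b < n) {fixed : List ℕ}
    (g : Equiv.Perm (Fin n)) : g ∈ fixer H (b :: fixed) ↔ g ∈ fixer H fixed ∧ g ⟨b, hb⟩ = ⟨b, hb⟩ := by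
  rw [mem_fixer, mem_fixer]
  constructor
  · rintro ⟨hg, hx⟩
    exact ⟨⟨hg, fun x hx' h => hx x (List.mem_cons_of_mem _ hx') h⟩, hx b List.mem_cons_self hb⟩
  · rintro ⟨⟨hg, hx⟩, hgb⟩
    refine ⟨hg, fun x hx' h => ?_⟩
    rcases List.mem_cons.1 hx' with rfl | hx''
    · exact hgb
    · exact hx x hx'' h

/-- the upper bound for the order of the centraliser -/
def centBound (cz : ℕ) : List ℕ → List (List ℕ) → ℕ
  | b :: bs, U :: Us =>
    cond (Nat.beq (lk cz b) b)
      ((U.filter fun c => Nat.beq (lk cz (lk c b)) (lk c b)).length * centBound cz bs Us)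
      ((U :: Us).map List.length).prod
  | _, Us => (Us.map List.length).prod

theorem card_centralizer_le (hn : n ≤ 512) (H : Subgroup (Equiv.Perm (Fin n))) (z : Equiv.Perm (Fin n)) :
    ∀ (bs fixed : List ℕ) (Us : List (List ℕ)), chainOK n fixed bs Us = true →
      (∀ U ∈ Us, ∀ c ∈ U, ∃ g ∈ H, enc n g = c) → Nat.card (fixer H fixed) ≤ (Us.map List.length).prod →
      Nat.card (fixer (H ⊓ Subgroup.centralizer {z}) fixed) ≤ centBound (enc n z) bs Us := by
  have hfall : ∀ (fixed : List ℕ) (N : ℕ), Nat.card (fixer H fixed) ≤ N →
      Nat.card (fixer (H ⊓ Subgroup.centralizer {z}) fixed) ≤ N := by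
    intro fixed N hN
    exact le_trans (Subgroup.card_le_of_le (fixer_mono inf_le_left fixed)) hN
  intro bs
  induction bs with
  | nil =>
    intro fixed Us _ _ ht
    show _ ≤ (Us.map List.length).prod
    exact hfall fixed _ ht
  | cons b bs ih =>
    intro fixed Us h hc ht
    cases Us with
    | nil => simp [chainOK] at h
    | cons U Us =>
      rw [centBound]
      cases hzb : Nat.beq (lk (enc n z) b) b with
      | false =>
        rw [cond_false]
        exact hfall fixed _ ht
      | true =>
        rw [cond_true]
        rw [chainOK, Bool.and_eq_true, Bool.and_eq_true, Bool.and_eq_true, List.all_eq_true] at h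
        obtain ⟨⟨⟨hb, hfix⟩, hnd⟩, hrest⟩ := h
        have hb' : b < n := by simpa [Nat.blt] using hb
        have hc' : ∀ U' ∈ Us, ∀ c ∈ U', ∃ g ∈ H, enc n g = c :=
          fun U' hU' => hc U' (List.mem_cons_of_mem _ hU')
        have hlow := chain_sound hn H bs (b :: fixed) Us hrest hc'
        have hdec : ∀ c ∈ U, dec n c ∈ H ∧ enc n (dec n c) = c := by
          intro c hcU
          obtain ⟨g, hg, rfl⟩ := hc U List.mem_cons_self c hcU
          rw [dec_enc hn]
          exact ⟨hg, rfl⟩
        have hlk : ∀ c ∈ U, ((dec n c ⟨b, hb'⟩ : Fin n) : ℕ) = lk c b := by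
          intro c hcU
          rw [← lk_enc_fin hn, (hdec c hcU).2]
        rw [List.map_cons, List.prod_cons] at ht
        have hUmem : ∀ u ∈ U.map (dec n), u ∈ fixer H fixed := by
          intro u hu
          rw [List.mem_map] at hu
          obtain ⟨c, hcU, rfl⟩ := hu
          refine ⟨(hdec c hcU).1, fun x hx hxn => Fin.ext ?_⟩
          rw [← lk_enc_fin hn, (hdec c hcU).2]
          have := hfix c hcU
          rw [List.all_eq_true] at this
          exact Nat.eq_of_beq_eq_true (this x hx)
        have hUnd : ((U.map (dec n)).map fun u => u ⟨b, hb'⟩).Nodup := by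
          rw [List.map_map]
          have hnd' := nodupB_sound hnd
          refine (List.Nodup.of_map (fun y : Fin n => (y : ℕ)) ?_)
          rw [List.map_map]
          have : U.map ((fun y : Fin n => (y : ℕ)) ∘ ((fun u => u ⟨b, hb'⟩) ∘ dec n)) = U.map fun c => lk c b := by
            apply List.map_congr_left
            intro c hcU
            exact hlk c hcU
          rw [this]
          exact hnd'
        obtain ⟨horb, htight'⟩ := tight_step (fixer H fixed) (fixer H (b :: fixed)) ⟨b, hb'⟩ (U.map (dec n))
          ((Us.map List.length).prod) hUmem hUnd (mem_fixer_cons hb') hlow (by rw [List.length_map]; exact ht)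
        have ih' := ih (b :: fixed) Us hrest hc' htight'
        -- the orbit under the centraliser
        have hzb' : z ⟨b, hb'⟩ = ⟨b, hb'⟩ := by
          apply Fin.ext
          rw [← lk_enc_fin hn]
          exact Nat.eq_of_beq_eq_true hzb
        classical
        let W : List ℕ := U.filter fun c => Nat.beq (lk (enc n z) (lk c b)) (lk c b)
        let S : Finset (Fin n) := (W.map fun c => dec n c ⟨b, hb'⟩).toFinset
        have hS : S.card ≤ W.length := (List.toFinset_card_le _).trans (by rw [List.length_map])
        obtain ⟨B', hB', hcard⟩ := card_le_step (A := Equiv.Perm (Fin n)) (X := Fin n)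
          (fixer (H ⊓ Subgroup.centralizer {z}) fixed) ⟨b, hb'⟩ S (by
            intro g hg
            have hgH : g ∈ fixer H fixed := fixer_mono inf_le_left fixed hg
            have hgz : g * z = z * g := by
              have hcz : g ∈ Subgroup.centralizer ({z} : Set (Equiv.Perm (Fin n))) := hg.1.2
              exact (Subgroup.mem_centralizer_iff.1 hcz z rfl).symm
            have himg := horb g hgH
            rw [List.map_map, List.mem_map] at himg
            obtain ⟨c, hcU, hcg⟩ := himg
            have hcg' : dec n c ⟨b, hb'⟩ = g ⟨b, hb'⟩ := hcg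
            show g ⟨b, hb'⟩ ∈ S
            rw [List.mem_toFinset, List.mem_map]
            refine ⟨c, ?_, hcg'⟩
            rw [List.mem_filter]
            refine ⟨hcU, ?_⟩
            have hfixz : z (g ⟨b, hb'⟩) = g ⟨b, hb'⟩ := by
              have := congrArg (fun p : Equiv.Perm (Fin n) => p ⟨b, hb'⟩) hgz
              simp only [Equiv.Perm.mul_apply] at this
              rw [hzb'] at this
              exact this.symm
            rw [← hlk c hcU, hcg', lk_enc_fin hn, hfixz]
            exact Nat.beq_refl _)
        have hB'eq : B' = fixer (H ⊓ Subgroup.centralizer {z}) (b :: fixed) := by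
          ext g
          rw [hB', mem_fixer_cons hb']
          exact Iff.rfl
        rw [hB'eq] at hcard
        calc Nat.card (fixer (H ⊓ Subgroup.centralizer {z}) fixed)
            ≤ S.card * Nat.card (fixer (H ⊓ Subgroup.centralizer {z}) (b :: fixed)) := hcard
          _ ≤ W.length * centBound (enc n z) bs Us := Nat.mul_le_mul hS ih'

end Cfsg.Agent.PG
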