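import Cfsg.Agent.Lib.Lead.PG.Inv

/-!
# A subgroup from a search tree of codes

A search tree of codes containing the code of the identity and closed under left multiplication by the codes of some
elements contains the codes of all elements of the subgroup they generate; this bounds the order of the subgroup by
the number of nodes, and transfers a test on the nodes to the elements.
-/

set_option autoImplicit false
set_option linter.unusedSectionVars false

namespace Cfsg.Agent.PG

open Cfsg.Agent.J3O

section

variable {n : ℕ} (hn : n ≤ 512) {P : Subgroup (Equiv.Perm (Fin n))} [Finite ↥P]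

/-- the test of a tree of the codes of a subgroup: the identity is there, the tree is closed under left
multiplication by the generators, and a test holds on all nodes -/
def sylTOK (n : ℕ) (gens : List ℕ) (T : CT) (q : ℕ → Bool) : Bool :=
  CT.mem (pone n) T && CT.all (fun d => gens.all fun s => CT.mem (pmul n s d) T) T && CT.all q T

include hn in
theorem sylTOK_sound {gs : List ↥P} {cs : List ℕ} (hgs : RegsOK P gs cs) (T : CT) (q : ℕ → Bool)
    (h : sylTOK n cs T q = true) :
    Nat.card (Subgroup.closure {g | g ∈ gs}) ≤ (CT.filterL (fun _ => true) T).length ∧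
      ∀ e ∈ Subgroup.closure {g | g ∈ gs}, q (enc n e.1) = true := by
  classical
  rw [sylTOK, Bool.and_eq_true, Bool.and_eq_true] at h
  obtain ⟨⟨h1, hcl⟩, hq⟩ := h
  have hone : CT.In (enc n ((1 : ↥P) : Equiv.Perm (Fin n))) T := by
    have := CT.mem_sound h1
    rwa [pone_eq] at this
  have hmulg : ∀ s ∈ gs, ∀ d : ↥P, CT.In (enc n d.1) T → CT.In (enc n (s * d).1) T := by
    intro s hs d hd
    obtain ⟨i, hi, rfl⟩ := List.getElem_of_mem hs
    have hi' : i < cs.length := by rw [← List.Forall₂.length_eq hgs]; exact hi
    have hsc : enc n (gs[i]).1 = cs[i] := by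
      have := hgs.getD i
      rwa [List.getD_eq_getElem _ _ hi, List.getD_eq_getElem _ _ hi'] at this
    have h2 := CT.all_sound hcl hd
    rw [List.all_eq_true] at h2
    have h3 := CT.mem_sound (h2 cs[i] (List.getElem_mem _))
    rw [← hsc, pmul_enc hn] at h3
    exact h3
  let S : Subgroup ↥P := Subgroup.closure {g | g ∈ gs}
  have hS : ∀ g ∈ S, ∀ d : ↥P, CT.In (enc n d.1) T → CT.In (enc n (g * d).1) T := by
    let M : Submonoid ↥P :=
      { carrier := {g | ∀ d : ↥P, CT.In (enc n d.1) T → CT.In (enc n (g * d).1) T}
        one_mem' := fun d hd => by rwa [one_mul]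
        mul_mem' := fun {u v} hu hv d hd => by rw [mul_assoc]; exact hu _ (hv d hd) }
    have hM : Submonoid.closure {g | g ∈ gs} ≤ M := Submonoid.closure_le.2 fun y hy => hmulg y hy
    intro g hg
    have hg' : g ∈ Submonoid.closure {g | g ∈ gs} := by
      rw [← Subgroup.closure_toSubmonoid_of_finite]; exact hg
    exact hM hg'
  have hin : ∀ g ∈ S, CT.In (enc n g.1) T := by
    intro g hg
    have := hS g hg 1 hone
    rwa [mul_one] at this
  refine ⟨?_, fun e he => CT.all_sound hq (hin e he)⟩
  -- the elements of `S` inject into the list of the nodes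
  let L : List ℕ := CT.filterL (fun _ => true) T
  have hmem : ∀ g : S, enc n g.1.1 ∈ L.toFinset := by
    intro g
    rw [List.mem_toFinset]
    exact CT.mem_filterL (hin g.1 g.2) rfl
  have hinj : Function.Injective (fun g : S => (⟨enc n g.1.1, hmem g⟩ : L.toFinset)) := by
    intro g g' hgg
    have : enc n g.1.1 = enc n g'.1.1 := congrArg Subtype.val hgg
    exact Subtype.ext (Subtype.ext (enc_injective hn this))
  have hc := Nat.card_le_card_of_injective _ hinj
  refine le_trans hc ?_
  rw [Nat.card_eq_fintype_card, Fintype.card_coe]
  exact List.toFinset_card_le L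

end

end Cfsg.Agent.PG
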