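import Cfsg.Agent.Lib.Lead.PG.Outer

/-!
# An upper bound for the number of automorphisms through the images of four elements, and trivial outer
automorphism groups
-/

set_option autoImplicit false
set_option linter.unusedSectionVars false

namespace Cfsg.Agent.PG

section four

variable {G : Type*} [Group G] [Finite G]

theorem finite_mulAut : Finite (MulAut G) :=
  Finite.of_injective (fun φ : MulAut G => (φ : G → G)) fun _ _ h => MulEquiv.ext (congrFun h)

open Classical in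
/-- the counting of the automorphisms through the images of four elements -/
theorem card_aut_le_of_four (x1 x2 x3 x4 : G) (F1 F2 F3 F4 : Finset G)
    (h1 : ∀ φ : MulAut G, φ x1 ∈ F1)
    (h2 : ∀ φ : MulAut G, φ x1 = x1 → φ x2 ∈ F2)
    (h3 : ∀ φ : MulAut G, φ x1 = x1 → φ x2 = x2 → φ x3 ∈ F3)
    (h4 : ∀ φ : MulAut G, φ x1 = x1 → φ x2 = x2 → φ x3 = x3 → φ x4 ∈ F4)
    (haut : ∀ φ : MulAut G, φ x1 = x1 → φ x2 = x2 → φ x3 = x3 → φ x4 = x4 → φ = 1) :
    Nat.card (MulAut G) ≤ F1.card * F2.card * F3.card * F4.card := by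
  have : Finite (MulAut G) := finite_mulAut
  obtain ⟨B1, m1, s1⟩ := card_le_step (⊤ : Subgroup (MulAut G)) x1 F1 (fun φ _ => h1 φ)
  obtain ⟨B2, m2, s2⟩ := card_le_step B1 x2 F2 (fun φ hφ => h2 φ ((m1 φ).1 hφ).2)
  obtain ⟨B3, m3, s3⟩ := card_le_step B2 x3 F3 (fun φ hφ =>
    h3 φ ((m1 φ).1 ((m2 φ).1 hφ).1).2 ((m2 φ).1 hφ).2)
  obtain ⟨B4, m4, s4⟩ := card_le_step B3 x4 F4 (fun φ hφ =>
    h4 φ ((m1 φ).1 ((m2 φ).1 ((m3 φ).1 hφ).1).1).2 ((m2 φ).1 ((m3 φ).1 hφ).1).2 ((m3 φ).1 hφ).2)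
  have hB4 : Nat.card B4 = 1 := by
    have : B4 = ⊥ := by
      rw [eq_bot_iff]
      intro φ hφ
      have hφ3 : φ ∈ B3 := ((m4 φ).1 hφ).1
      have hφ2 : φ ∈ B2 := ((m3 φ).1 hφ3).1
      have hφ1 : φ ∈ B1 := ((m2 φ).1 hφ2).1
      rw [Subgroup.mem_bot]
      exact haut φ ((m1 φ).1 hφ1).2 ((m2 φ).1 hφ2).2 ((m3 φ).1 hφ3).2 ((m4 φ).1 hφ).2
    rw [this]
    exact Subgroup.card_bot
  have hc0 : Nat.card (MulAut G) = Nat.card (⊤ : Subgroup (MulAut G)) := Subgroup.card_top.symm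
  rw [hc0]
  rw [hB4, mul_one] at s4
  calc Nat.card (⊤ : Subgroup (MulAut G)) ≤ F1.card * Nat.card B1 := s1
    _ ≤ F1.card * (F2.card * Nat.card B2) := Nat.mul_le_mul_left _ s2
    _ ≤ F1.card * (F2.card * (F3.card * Nat.card B3)) :=
      Nat.mul_le_mul_left _ (Nat.mul_le_mul_left _ s3)
    _ ≤ F1.card * (F2.card * (F3.card * F4.card)) :=
      Nat.mul_le_mul_left _ (Nat.mul_le_mul_left _ (Nat.mul_le_mul_left _ s4))
    _ = F1.card * F2.card * F3.card * F4.card := by ring

end four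

section

variable {n : ℕ} (hn : n ≤ 512) {P : Subgroup (Equiv.Perm (Fin n))} [Finite ↥P]

include hn in
/-- an automorphism fixing the elements of a list from which the generators are obtained by a program is trivial -/
theorem aut_eq_one_of_regs {a b : ↥P} (hgen : Subgroup.closure {a, b} = (⊤ : Subgroup ↥P))
    {fixed : List ↥P} {cfixed : List ℕ} (hregs : RegsOK P fixed cfixed)
    (slpG : List (ℕ × ℕ)) (ia ib : ℕ)
    (hA : (run n slpG cfixed).getD ia (pone n) = enc n a.1)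
    (hB : (run n slpG cfixed).getD ib (pone n) = enc n b.1)
    (φ : MulAut ↥P) (hφ : fixed.map φ = fixed) : φ = 1 := by
  have hrun := hregs.run hn (is := slpG)
  have hfix : ∀ i, φ ((runM slpG fixed).getD i 1) = (runM slpG fixed).getD i 1 := by
    intro i
    have := List.getD_map (f := (φ : ↥P → ↥P)) (l := runM slpG fixed) (n := i) (d := 1)
    rw [map_one] at this
    rw [← this]
    have e := map_runM φ.toMonoidHom slpG fixed
    have e' : fixed.map φ.toMonoidHom = fixed := hφ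
    rw [e'] at e
    exact congrArg (fun l => l.getD i 1) e
  have eA : (runM slpG fixed).getD ia 1 = a :=
    Subtype.ext (enc_injective hn ((hrun.getD ia).trans hA))
  have eB : (runM slpG fixed).getD ib 1 = b :=
    Subtype.ext (enc_injective hn ((hrun.getD ib).trans hB))
  have fa : φ a = a := by rw [← eA]; exact hfix ia
  have fb : φ b = b := by rw [← eB]; exact hfix ib
  have hcomp : φ.toMonoidHom = MonoidHom.id ↥P := by
    apply MonoidHom.eq_of_eqOn_dense hgen
    intro x hx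
    rcases hx with rfl | rfl
    · exact fa
    · exact fb
  exact MulEquiv.ext fun x => congrArg (fun f : ↥P →* ↥P => f x) hcomp

theorem card_out_eq_one_of_le (hZ : Subgroup.center ↥P = ⊥) {N : ℕ} (hN : Nat.card ↥P = N)
    (hle : Nat.card (MulAut ↥P) ≤ N) : Nat.card (Cfsg.Out ↥P) = 1 := by
  have hinn : Nat.card (Cfsg.Inn ↥P) = N := by
    rw [← hN]
    exact (Nat.card_congr (MonoidHom.ofInjective (conj_injective_of_center hZ)).toEquiv).symm
  have h2 := Subgroup.card_mul_index (Cfsg.Inn ↥P)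
  rw [hinn] at h2
  have h4 : (Cfsg.Inn ↥P).index ≠ 0 := by
    intro h0
    rw [h0, mul_zero] at h2
    have : Nat.card (MulAut ↥P) ≠ 0 := Nat.card_pos.ne'
    exact this h2.symm
  have hNpos : 0 < N := by rw [← hN]; exact Nat.card_pos
  show Nat.card (MulAut ↥P ⧸ Cfsg.Inn ↥P) = 1
  rw [← Subgroup.index_eq_card]
  have h5 : N * (Cfsg.Inn ↥P).index ≤ N := by rw [h2]; exact hle
  have h6 : (Cfsg.Inn ↥P).index ≤ 1 := by
    by_contra hc
    have : 2 ≤ (Cfsg.Inn ↥P).index := by omega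
    nlinarith
  omega

end

end Cfsg.Agent.PG
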