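import Cfsg.Agent.Lib.Lead.PG.Slp

/-!
# Powers of codes of permutations, and a criterion for a two-generator group to be perfect
-/

set_option autoImplicit false

namespace Cfsg.Agent.PG

/-- the power of a code -/
def ppow (n c : ℕ) : ℕ → ℕ
  | 0 => pone n
  | k + 1 => pmul n (ppow n c k) c

theorem ppow_enc {n : ℕ} (hn : n ≤ 512) (g : Equiv.Perm (Fin n)) :
    ∀ k : ℕ, ppow n (enc n g) k = enc n (g ^ k)
  | 0 => by rw [ppow, pow_zero, pone_eq]
  | k + 1 => by rw [ppow, ppow_enc hn g k, pmul_enc hn, pow_succ]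

/-- an element of a permutation group whose code has a trivial power has that power trivial -/
theorem pow_eq_one_of_code {n : ℕ} (hn : n ≤ 512) {H : Subgroup (Equiv.Perm (Fin n))} {x : ↥H} {c k : ℕ}
    (hx : enc n x.1 = c) (hc : ppow n c k = pone n) : x ^ k = 1 := by
  apply Subtype.ext
  apply enc_injective hn
  rw [Subgroup.coe_pow, ← ppow_enc hn, hx, hc, pone_eq]
  rfl

/-- two commuting elements `X`, `Y` with `X ^ (c * k) = 1` and `X ^ c * Y ^ d = 1`: then `Y ^ (d * k) = 1` -/
theorem pow_eq_one_of_mul {A : Type*} [CommGroup A] {X Y : A} {c d : ℕ} (k : ℕ) (hX : X ^ (c * k) = 1)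
    (h : X ^ c * Y ^ d = 1) : Y ^ (d * k) = 1 := by
  have h2 : (X ^ c * Y ^ d) ^ k = 1 := by rw [h, one_pow]
  rw [mul_pow, ← pow_mul, ← pow_mul, hX, one_mul] at h2
  exact h2

/-- a group generated by two elements `x`, `y` such that `x`, `y`, `x y`, `x y²`, `x y³` have orders dividing
14, 18, 12, 7, 15 is perfect -/
theorem commutator_eq_top_of_orders {G : Type*} [Group G] {x y : G}
    (hgen : Subgroup.closure {x, y} = (⊤ : Subgroup G))
    (h1 : x ^ 14 = 1) (h2 : y ^ 18 = 1) (h3 : (x * y) ^ 12 = 1) (h4 : (x * y * y) ^ 7 = 1)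
    (h5 : (x * y * y * y) ^ 15 = 1) : commutator G = ⊤ := by
  set π := (Abelianization.of : G →* Abelianization G) with hπ
  set X := π x with hX
  set Y := π y with hY
  have e1 : X ^ 14 = 1 := by rw [hX, ← map_pow, h1, map_one]
  have e2 : Y ^ 18 = 1 := by rw [hY, ← map_pow, h2, map_one]
  have e3 : X ^ 12 * Y ^ 12 = 1 := by rw [← mul_pow, hX, hY, ← map_mul, ← map_pow, h3, map_one]
  have e4 : X ^ 7 * Y ^ 14 = 1 := by
    have : (X * Y * Y) ^ 7 = 1 := by rw [hX, hY, ← map_mul, ← map_mul, ← map_pow, h4, map_one]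
    rw [mul_assoc, mul_pow, ← pow_two, ← pow_mul] at this
    exact this
  have e5 : X ^ 15 * Y ^ 45 = 1 := by
    have : (X * Y * Y * Y) ^ 15 = 1 := by
      rw [hX, hY, ← map_mul, ← map_mul, ← map_mul, ← map_pow, h5, map_one]
    have hy3 : Y * (Y * Y) = Y ^ 3 := by rw [pow_succ, pow_two, mul_assoc]
    rw [mul_assoc, mul_assoc, mul_pow, hy3, ← pow_mul] at this
    exact this
  have y28 : Y ^ 28 = 1 := pow_eq_one_of_mul 2 e1 e4
  have y2 : Y ^ 2 = 1 := by
    have d1 := orderOf_dvd_of_pow_eq_one y28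
    have d2 := orderOf_dvd_of_pow_eq_one e2
    have d3 : orderOf Y ∣ Nat.gcd 28 18 := Nat.dvd_gcd d1 d2
    exact orderOf_dvd_iff_pow_eq_one.1 d3
  have y14 : Y ^ 14 = 1 := by rw [show 14 = 2 * 7 from rfl, pow_mul, y2, one_pow]
  have y12 : Y ^ 12 = 1 := by rw [show 12 = 2 * 6 from rfl, pow_mul, y2, one_pow]
  have x7 : X ^ 7 = 1 := by rw [y14, mul_one] at e4; exact e4
  have x12 : X ^ 12 = 1 := by rw [y12, mul_one] at e3; exact e3
  have x1 : X = 1 := by
    have d1 := orderOf_dvd_of_pow_eq_one x7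
    have d2 := orderOf_dvd_of_pow_eq_one x12
    have d3 : orderOf X ∣ Nat.gcd 7 12 := Nat.dvd_gcd d1 d2
    have : X ^ 1 = 1 := orderOf_dvd_iff_pow_eq_one.1 d3
    rwa [pow_one] at this
  have y1 : Y = 1 := by
    rw [x1, one_pow, one_mul] at e5
    have d1 := orderOf_dvd_of_pow_eq_one e5
    have d2 := orderOf_dvd_of_pow_eq_one y2
    have d3 : orderOf Y ∣ Nat.gcd 45 2 := Nat.dvd_gcd d1 d2
    have : Y ^ 1 = 1 := orderOf_dvd_iff_pow_eq_one.1 d3
    rwa [pow_one] at this
  have hk : (⊤ : Subgroup G) ≤ π.ker := by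
    rw [← hgen, Subgroup.closure_le]
    intro g hg
    rcases hg with rfl | rfl
    · exact x1
    · exact y1
  rw [← Abelianization.ker_of G]
  exact top_le_iff.1 hk

/-- a surjective image of a perfect group is perfect -/
theorem commutator_eq_top_of_surjective {G G' : Type*} [Group G] [Group G'] (f : G →* G')
    (hf : Function.Surjective f) (h : commutator G = ⊤) : commutator G' = ⊤ := by
  rw [commutator_def] at h ⊢
  have h1 : (⊤ : Subgroup G') = Subgroup.map f ⊤ := by
    rw [← MonoidHom.range_eq_map, MonoidHom.range_eq_top.2 hf]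
  have h2 := Subgroup.map_commutator (⊤ : Subgroup G) ⊤ f
  rw [h, ← h1] at h2
  exact h2.symm

/-- perfectness of the centraliser of an element is preserved by an isomorphism -/
theorem commutator_centralizer_map {G G' : Type*} [Group G] [Group G'] (e : G ≃* G') (z : G)
    (h : commutator ↥(Subgroup.centralizer ({z} : Set G)) = ⊤) :
    commutator ↥(Subgroup.centralizer ({e z} : Set G')) = ⊤ := by
  have hmem : ∀ x : ↥(Subgroup.centralizer ({z} : Set G)), e x.1 ∈ Subgroup.centralizer ({e z} : Set G') := by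
    intro x
    rw [Subgroup.mem_centralizer_singleton_iff]
    have := Subgroup.mem_centralizer_singleton_iff.1 x.2
    rw [← map_mul, ← map_mul, this]
  let f : ↥(Subgroup.centralizer ({z} : Set G)) →* ↥(Subgroup.centralizer ({e z} : Set G')) :=
    { toFun := fun x => ⟨e x.1, hmem x⟩
      map_one' := Subtype.ext (map_one e)
      map_mul' := fun x y => Subtype.ext (map_mul e x.1 y.1) }
  apply commutator_eq_top_of_surjective f _ h
  intro y
  have hy := Subgroup.mem_centralizer_singleton_iff.1 y.2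
  refine ⟨⟨e.symm y.1, ?_⟩, Subtype.ext (e.apply_symm_apply y.1)⟩
  rw [Subgroup.mem_centralizer_singleton_iff]
  apply e.injective
  rw [map_mul, map_mul, e.apply_symm_apply]
  exact hy

/-- perfectness of the centraliser of an element is preserved by conjugation -/
theorem commutator_centralizer_conj {G : Type*} [Group G] (g z : G)
    (h : commutator ↥(Subgroup.centralizer ({z} : Set G)) = ⊤) :
    commutator ↥(Subgroup.centralizer ({g * z * g⁻¹} : Set G)) = ⊤ :=
  commutator_centralizer_map (MulAut.conj g) z h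

end Cfsg.Agent.PG
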