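import Cfsg.Agent.Lib.Lead.PG.Upper
import Cfsg.Agent.Lib.Helper6.OutGeneric

/-!
# A non-inner automorphism from an odd permutation normalising a permutation group, and the order of the outer
automorphism group
-/

set_option autoImplicit false
set_option linter.unusedSectionVars false

namespace Cfsg.Agent.PG

/-! ### the sign of an involution -/

theorem sign_of_sq_eq_one {n : ℕ} (σ : Equiv.Perm (Fin n)) (h2 : σ * σ = 1) (h1 : σ ≠ 1) :
    Equiv.Perm.sign σ = (-1) ^ (σ.support.card / 2) := by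
  have ho : orderOf σ = 2 := orderOf_eq_prime (by rw [pow_two]; exact h2) h1
  obtain ⟨m, hm⟩ := Equiv.Perm.cycleType_prime_order (σ := σ) (by rw [ho]; exact Nat.prime_two)
  rw [ho] at hm
  have hs : σ.support.card = (m + 1) * 2 := by
    rw [← Equiv.Perm.sum_cycleType, hm, Multiset.sum_replicate, smul_eq_mul]
  rw [Equiv.Perm.sign_of_cycleType, hm, hs, Multiset.sum_replicate, Multiset.card_replicate,
    smul_eq_mul, Nat.mul_div_cancel _ (by norm_num : 0 < 2), pow_add, pow_mul]
  norm_num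

section

variable {n : ℕ} (hn : n ≤ 512)

include hn in
theorem support_card_dec {c : ℕ} (hc : IsCode n c) :
    (dec n c).support.card = (Finset.univ.filter fun x : Fin n => lk c x.val ≠ x.val).card := by
  congr 1
  ext x
  rw [Equiv.Perm.mem_support, Finset.mem_filter, Ne, Fin.ext_iff, dec_apply hn hc]
  simp

include hn in
/-- the sign of an involution given by its code -/
theorem sign_dec_of_inv {c : ℕ} (hc : IsCode n c) (h2 : pmul n c c = pone n) (hne : c ≠ pone n) {k : ℕ}
    (hk : (Finset.univ.filter fun x : Fin n => lk c x.val ≠ x.val).card = k) :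
    Equiv.Perm.sign (dec n c) = (-1) ^ (k / 2) := by
  have e := enc_dec hc
  have h2' : dec n c * dec n c = 1 := by
    apply enc_injective hn
    rw [← pmul_enc hn, e, h2, pone_eq]
  have h1' : dec n c ≠ 1 := by
    intro h
    apply hne
    rw [← e, h, pone_eq]
  rw [sign_of_sq_eq_one _ h2' h1', support_card_dec hn hc, hk]

variable {P : Subgroup (Equiv.Perm (Fin n))}

/-- a simple group of permutations with more than two elements consists of even permutations -/
theorem sign_eq_one_of_simple [Finite ↥P] (hs : IsSimpleGroup ↥P) (hcard : 2 < Nat.card ↥P) {x : Equiv.Perm (Fin n)}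
    (hx : x ∈ P) : Equiv.Perm.sign x = 1 := by
  let f : ↥P →* ℤˣ := Equiv.Perm.sign.comp P.subtype
  rcases hs.eq_bot_or_eq_top_of_normal f.ker (MonoidHom.normal_ker f) with h | h
  · exfalso
    have hinj : Function.Injective f := (MonoidHom.ker_eq_bot_iff f).1 h
    have := Nat.card_le_card_of_injective f hinj
    rw [Nat.card_eq_fintype_card (α := ℤˣ), Fintype.card_units_int] at this
    omega
  · have : (⟨x, hx⟩ : ↥P) ∈ f.ker := by rw [h]; exact Subgroup.mem_top _
    exact MonoidHom.mem_ker.1 this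

/-- the centraliser of a transitive group in which some elements have a unique common fixed point is trivial -/
theorem cent_trivial (b0 : Fin n) (htrans : ∀ k : Fin n, ∃ σ ∈ P, σ b0 = k) (xs : List (Equiv.Perm (Fin n)))
    (hxs : ∀ x ∈ xs, x ∈ P ∧ x b0 = b0) (huniq : ∀ k : Fin n, (∀ x ∈ xs, x k = k) → k = b0)
    (c : Equiv.Perm (Fin n)) (hc : ∀ x ∈ P, c * x = x * c) : c = 1 := by
  have hb : c b0 = b0 := by
    apply huniq
    intro x hx
    have := congrArg (fun σ : Equiv.Perm (Fin n) => σ b0) (hc x (hxs x hx).1)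
    simp only [Equiv.Perm.mul_apply, (hxs x hx).2] at this
    exact this.symm
  refine Equiv.ext fun k => ?_
  obtain ⟨σ, hσ, rfl⟩ := htrans k
  have := congrArg (fun ρ : Equiv.Perm (Fin n) => ρ b0) (hc σ hσ)
  simp only [Equiv.Perm.mul_apply, hb] at this
  exact this

/-- conjugation by an involution normalising the group -/
noncomputable def conjAut (τ : Equiv.Perm (Fin n)) (hτ2 : τ * τ = 1) (hτP : ∀ x ∈ P, τ * x * τ⁻¹ ∈ P) :
    MulAut ↥P where
  toFun x := ⟨τ * x.1 * τ⁻¹, hτP x.1 x.2⟩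
  invFun x := ⟨τ * x.1 * τ⁻¹, hτP x.1 x.2⟩
  left_inv x := by
    apply Subtype.ext
    show τ * (τ * x.1 * τ⁻¹) * τ⁻¹ = x.1
    have hi : τ⁻¹ = τ := inv_eq_of_mul_eq_one_left hτ2
    rw [hi]
    calc τ * (τ * x.1 * τ) * τ = (τ * τ) * x.1 * (τ * τ) := by group
      _ = x.1 := by rw [hτ2, one_mul, mul_one]
  right_inv x := by
    apply Subtype.ext
    show τ * (τ * x.1 * τ⁻¹) * τ⁻¹ = x.1
    have hi : τ⁻¹ = τ := inv_eq_of_mul_eq_one_left hτ2
    rw [hi]
    calc τ * (τ * x.1 * τ) * τ = (τ * τ) * x.1 * (τ * τ) := by group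
      _ = x.1 := by rw [hτ2, one_mul, mul_one]
  map_mul' x y := by
    apply Subtype.ext
    show τ * (x.1 * y.1) * τ⁻¹ = (τ * x.1 * τ⁻¹) * (τ * y.1 * τ⁻¹)
    group

theorem exists_outer (τ : Equiv.Perm (Fin n)) (hτ2 : τ * τ = 1) (hτP : ∀ x ∈ P, τ * x * τ⁻¹ ∈ P) (hτ : τ ∉ P)
    (hcent : ∀ c : Equiv.Perm (Fin n), (∀ x ∈ P, c * x = x * c) → c = 1) :
    ∃ α : MulAut ↥P, ∀ g : ↥P, α ≠ MulAut.conj g := by
  refine ⟨conjAut τ hτ2 hτP, fun g h => ?_⟩
  have hx : ∀ x ∈ P, τ * x * τ⁻¹ = g.1 * x * g.1⁻¹ := by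
    intro x hx
    have := congrArg (fun β : MulAut ↥P => ((β ⟨x, hx⟩ : ↥P) : Equiv.Perm (Fin n))) h
    simpa [conjAut, MulAut.conj_apply] using this
  have hc : g.1⁻¹ * τ = 1 := by
    apply hcent
    intro x hx'
    have := hx x hx'
    calc g.1⁻¹ * τ * x = g.1⁻¹ * (τ * x * τ⁻¹) * τ := by group
      _ = g.1⁻¹ * (g.1 * x * g.1⁻¹) * τ := by rw [this]
      _ = x * (g.1⁻¹ * τ) := by group
  have : τ = g.1 := by
    have := congrArg (fun y => g.1 * y) hc
    simpa using this
  exact hτ (this ▸ g.2)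

/-- the normalisation of a group by an element, from the generators -/
theorem conj_mem_of_gens {a b τ : Equiv.Perm (Fin n)} (hP : P = Subgroup.closure {a, b})
    (ha : τ * a * τ⁻¹ ∈ P) (hb : τ * b * τ⁻¹ ∈ P) : ∀ x ∈ P, τ * x * τ⁻¹ ∈ P := by
  have : P ≤ P.comap (MulAut.conj τ).toMonoidHom := by
    conv_lhs => rw [hP]
    rw [Subgroup.closure_le]
    intro g hg
    rw [SetLike.mem_coe, Subgroup.mem_comap]
    show τ * g * τ⁻¹ ∈ P
    rcases hg with rfl | rfl
    · exact ha
    · exact hb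
  exact fun x hx => this hx

/-! ### the order of the outer automorphism group -/

theorem conj_injective_of_center (hZ : Subgroup.center ↥P = ⊥) :
    Function.Injective (MulAut.conj : ↥P →* MulAut ↥P) := by
  rw [injective_iff_map_eq_one]
  intro g hg
  have hc : g ∈ Subgroup.center ↥P := by
    rw [Subgroup.mem_center_iff]
    intro x
    have := congrArg (fun β : MulAut ↥P => β x) hg
    simp only [MulAut.conj_apply, MulAut.one_apply] at this
    calc x * g = (g * x * g⁻¹) * g := by rw [this]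
      _ = g * x := by group
  rw [hZ] at hc
  exact Subgroup.mem_bot.1 hc

theorem card_out_eq_two [Finite ↥P] (hZ : Subgroup.center ↥P = ⊥) {N : ℕ} (hN : Nat.card ↥P = N)
    (hle : Nat.card (MulAut ↥P) ≤ 2 * N) (hO : ∃ α : MulAut ↥P, ∀ g : ↥P, α ≠ MulAut.conj g) :
    Nat.card (Cfsg.Out ↥P) = 2 := by
  have hinn : Nat.card (Cfsg.Inn ↥P) = N := by
    rw [← hN]
    exact (Nat.card_congr (MonoidHom.ofInjective (conj_injective_of_center hZ)).toEquiv).symm
  have h2 := Subgroup.card_mul_index (Cfsg.Inn ↥P)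
  rw [hinn] at h2
  have h3 : (Cfsg.Inn ↥P).index ≠ 1 := by
    rw [Ne, Subgroup.index_eq_one]
    intro htop
    obtain ⟨α, hα⟩ := hO
    have : α ∈ Cfsg.Inn ↥P := by rw [htop]; exact Subgroup.mem_top _
    obtain ⟨g, hg⟩ := this
    exact hα g hg.symm
  have h4 : (Cfsg.Inn ↥P).index ≠ 0 := by
    intro h0
    rw [h0, mul_zero] at h2
    have : Nat.card (MulAut ↥P) ≠ 0 := Nat.card_pos.ne'
    exact this h2.symm
  have hNpos : 0 < N := by rw [← hN]; exact Nat.card_pos
  show Nat.card (MulAut ↥P ⧸ Cfsg.Inn ↥P) = 2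
  rw [← Subgroup.index_eq_card]
  have h5 : N * (Cfsg.Inn ↥P).index ≤ 2 * N := by rw [h2]; exact hle
  have h6 : (Cfsg.Inn ↥P).index ≤ 2 := by
    by_contra hc
    have : 3 ≤ (Cfsg.Inn ↥P).index := by omega
    nlinarith
  omega

end

end Cfsg.Agent.PG
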