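import Cfsg.Agent.Lib.Lead.J3.Tree
import Cfsg.Agent.Lib.Lead.PG.Slp

/-!
# Lists of search trees of codes, and tests on codes
-/

set_option autoImplicit false

namespace Cfsg.Agent.PG

open Cfsg.Agent.J3O Cfsg.Agent.J3O.CT

/-- a number of one of the trees -/
def InFL (l : List (ℕ × CT)) (c : ℕ) : Prop := ∃ bt ∈ l, In c bt.2

/-- the membership test in a list of trees with bounds -/
def memFL (c : ℕ) : List (ℕ × CT) → Bool
  | [] => false
  | bt :: l => cond (Nat.ble c bt.1) (mem c bt.2) (memFL c l)

theorem memFL_sound {c : ℕ} : ∀ {l : List (ℕ × CT)}, memFL c l = true → InFL l c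
  | [], h => by simp [memFL] at h
  | bt :: l, h => by
    rw [memFL] at h
    cases hb : Nat.ble c bt.1
    · rw [hb, cond_false] at h
      obtain ⟨bt', h1, h2⟩ := memFL_sound h
      exact ⟨bt', List.mem_cons_of_mem _ h1, h2⟩
    · rw [hb, cond_true] at h
      exact ⟨bt, List.mem_cons_self, mem_sound h⟩

/-- the universal test on all trees -/
def allFL (l : List (ℕ × CT)) (p : ℕ → Bool) : Bool := l.all fun bt => all p bt.2

theorem allFL_sound {l : List (ℕ × CT)} {p : ℕ → Bool} (h : allFL l p = true) {c : ℕ} (hc : InFL l c) :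
    p c = true := by
  obtain ⟨bt, h1, h2⟩ := hc
  exact all_sound (List.all_eq_true.1 h bt h1) h2

/-- the numbers of all trees satisfying a test -/
def filterFL (l : List (ℕ × CT)) (p : ℕ → Bool) : List ℕ := l.flatMap fun bt => filterL p bt.2

theorem mem_filterFL {l : List (ℕ × CT)} {p : ℕ → Bool} {c : ℕ} (hc : InFL l c) (hp : p c = true) :
    c ∈ filterFL l p := by
  obtain ⟨bt, h1, h2⟩ := hc
  exact List.mem_flatMap.2 ⟨bt, h1, mem_filterL h2 hp⟩

theorem length_filterFL (l : List (ℕ × CT)) (p : ℕ → Bool) :
    (filterFL l p).length = (l.map fun bt => (filterL p bt.2).length).sum := by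
  rw [filterFL, List.length_flatMap]

/-- evaluation of a list argument before application -/
def strictL {α : Type*} (R : List ℕ) (f : List ℕ → α) : α :=
  match R with
  | [] => f []
  | x :: xs => f (x :: xs)

theorem strictL_eq {α : Type*} (R : List ℕ) (f : List ℕ → α) : strictL R f = f R := by
  cases R <;> rfl

/-- a test: run a straight line program and compare the identity tests of some registers with given values -/
def condOf (n : ℕ) (is : List (ℕ × ℕ)) (ts : List (ℕ × Bool)) (cs : List ℕ) : Bool :=
  strictL (run n is cs) fun R => ts.all fun t => Nat.beq (R.getD t.1 (pone n)) (pone n) == t.2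

section

variable {n : ℕ} (hn : n ≤ 512) {P : Subgroup (Equiv.Perm (Fin n))}

include hn

theorem enc_eq_pone_iff (g : ↥P) : enc n g.1 = pone n ↔ g = 1 := by
  rw [pone_eq]
  constructor
  · intro h
    exact Subtype.ext (enc_injective hn h)
  · rintro rfl
    rfl

/-- whether a register of a straight line program is the identity is invariant under automorphisms -/
theorem isOne_transfer (φ : ↥P ≃* ↥P) {gs gs' : List ↥P} {cs cs' : List ℕ}
    (h : RegsOK P gs cs) (h' : RegsOK P gs' cs') (hφ : gs.map φ = gs') (is : List (ℕ × ℕ)) (i : ℕ) :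
    Nat.beq ((run n is cs).getD i (pone n)) (pone n) = Nat.beq ((run n is cs').getD i (pone n)) (pone n) := by
  have key : ∀ {gs : List ↥P} {cs : List ℕ}, RegsOK P gs cs →
      (Nat.beq ((run n is cs).getD i (pone n)) (pone n) = true ↔ (runM is gs).getD i 1 = 1) := by
    intro gs cs h
    rw [← (h.run hn (is := is)).getD i, ← enc_eq_pone_iff hn]
    exact ⟨Nat.eq_of_beq_eq_true, fun e => by rw [e]; exact Nat.beq_refl _⟩
  have e1 := key h
  have e2 := key h'
  rw [← hφ] at e2
  have e4 : runM is (gs.map φ) = (runM is gs).map φ := (map_runM φ.toMonoidHom is gs).symm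
  have e5 : ((runM is gs).map φ).getD i 1 = φ ((runM is gs).getD i 1) := by
    have := List.getD_map (f := (φ : ↥P → ↥P)) (l := runM is gs) (n := i) (d := 1)
    rw [map_one] at this
    exact this
  rw [e4, e5, map_eq_one_iff φ φ.injective, ← e1] at e2
  rw [Bool.eq_iff_iff]
  exact e2.symm

theorem condOf_transfer (φ : ↥P ≃* ↥P) {gs gs' : List ↥P} {cs cs' : List ℕ}
    (h : RegsOK P gs cs) (h' : RegsOK P gs' cs') (hφ : gs.map φ = gs') (is : List (ℕ × ℕ))
    (ts : List (ℕ × Bool)) : condOf n is ts cs = condOf n is ts cs' := by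
  rw [condOf, condOf, strictL_eq, strictL_eq]
  congr 1
  funext t
  rw [isOne_transfer hn φ h h' hφ is t.1]

end

end Cfsg.Agent.PG
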