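import Cfsg.Agent.Lib.Lead.PG.Inv

/-!
# An upper bound for the number of automorphisms of a permutation group generated by three involutions

An automorphism is determined by the images of three involutions; the images are restricted step by step by tests
on the codes in the trees of the involutions.
-/

set_option autoImplicit false
set_option linter.unusedSectionVars false

namespace Cfsg.Agent.PG

open Cfsg.Agent.J3O

/-! ### a counting lemma -/

section count

variable {A X : Type*} [Group A] [Finite A] [MulAction A X] [DecidableEq X]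

theorem card_le_step (B : Subgroup A) (x : X) (S : Finset X) (h : ∀ b ∈ B, b • x ∈ S) :
    ∃ B' : Subgroup A, (∀ b, b ∈ B' ↔ b ∈ B ∧ b • x = x) ∧ Nat.card B ≤ S.card * Nat.card B' := by
  refine ⟨(MulAction.stabilizer B x).map B.subtype, ?_, ?_⟩
  · intro b
    constructor
    · rintro ⟨c, hc, rfl⟩
      exact ⟨c.2, MulAction.mem_stabilizer_iff.1 hc⟩
    · rintro ⟨hb, hx⟩
      exact ⟨⟨b, hb⟩, MulAction.mem_stabilizer_iff.2 hx, rfl⟩
  · have h1 := Subgroup.card_mul_index (MulAction.stabilizer B x)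
    have h2 : (MulAction.stabilizer B x).index = (MulAction.orbit B x).ncard :=
      MulAction.index_stabilizer B x
    have h3 : (MulAction.orbit B x).ncard ≤ S.card := by
      rw [← Set.ncard_coe_finset S]
      apply Set.ncard_le_ncard _ (Finset.finite_toSet S)
      rintro y ⟨b, rfl⟩
      exact h b.1 b.2
    have h4 : Nat.card ((MulAction.stabilizer B x).map B.subtype) =
        Nat.card (MulAction.stabilizer B x) :=
      Subgroup.card_map_of_injective B.subtype_injective
    rw [h4, ← h1, h2, mul_comm]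
    exact Nat.mul_le_mul_right _ h3

end count

section

variable {n : ℕ} (hn : n ≤ 512) {P : Subgroup (Equiv.Perm (Fin n))} [Finite ↥P]

/-- the element of a code -/
noncomputable def eltOf (P : Subgroup (Equiv.Perm (Fin n))) (c : ℕ) : ↥P :=
  open Classical in if h : ∃ g : ↥P, enc n g.1 = c then h.choose else 1

include hn in
theorem eltOf_enc (g : ↥P) : eltOf P (enc n g.1) = g := by
  have h : ∃ g' : ↥P, enc n g'.1 = enc n g.1 := ⟨g, rfl⟩
  rw [eltOf, dif_pos h]
  exact Subtype.ext (enc_injective hn h.choose_spec)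

theorem smul_eq (φ : MulAut ↥P) (x : ↥P) : φ • x = φ x := rfl

instance : Finite (MulAut ↥P) :=
  Finite.of_injective (fun φ : MulAut ↥P => (φ : ↥P → ↥P)) fun _ _ h => MulEquiv.ext (congrFun h)

variable {forest : List (ℕ × CT)} {z1 z2 z3 : ↥P}

include hn in
open Classical in
/-- the counting of the automorphisms through the images of three elements -/
theorem card_aut_le_of_steps (cond1 cond2 cond3 : ℕ → Bool) {N1 N2 N3 : ℕ}
    (hN1 : (filterFL forest cond1).length ≤ N1) (hN2 : (filterFL forest cond2).length ≤ N2)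
    (hN3 : (filterFL forest cond3).length ≤ N3)
    (hstep1 : ∀ φ : MulAut ↥P, InFL forest (enc n (φ z1).1) ∧ cond1 (enc n (φ z1).1) = true)
    (hstep2 : ∀ φ : MulAut ↥P, φ z1 = z1 → InFL forest (enc n (φ z2).1) ∧ cond2 (enc n (φ z2).1) = true)
    (hstep3 : ∀ φ : MulAut ↥P, φ z1 = z1 → φ z2 = z2 →
      InFL forest (enc n (φ z3).1) ∧ cond3 (enc n (φ z3).1) = true)
    (haut : ∀ φ : MulAut ↥P, φ z1 = z1 → φ z2 = z2 → φ z3 = z3 → φ = 1) :
    Nat.card (MulAut ↥P) ≤ N1 * N2 * N3 := by
  let F0 : Finset ↥P := ((filterFL forest cond1).map (eltOf P)).toFinset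
  let F1 : Finset ↥P := ((filterFL forest cond2).map (eltOf P)).toFinset
  let F2 : Finset ↥P := ((filterFL forest cond3).map (eltOf P)).toFinset
  have k0 : F0.card ≤ N1 := (List.toFinset_card_le _).trans (by rw [List.length_map]; exact hN1)
  have k1 : F1.card ≤ N2 := (List.toFinset_card_le _).trans (by rw [List.length_map]; exact hN2)
  have k2 : F2.card ≤ N3 := (List.toFinset_card_le _).trans (by rw [List.length_map]; exact hN3)
  have key : ∀ {cond : ℕ → Bool} {x : ↥P}, InFL forest (enc n x.1) → cond (enc n x.1) = true →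
      x ∈ ((filterFL forest cond).map (eltOf P)).toFinset := by
    intro cond x hx hc
    rw [List.mem_toFinset, List.mem_map]
    exact ⟨enc n x.1, mem_filterFL hx hc, eltOf_enc hn x⟩
  obtain ⟨B1, m1, s1⟩ := card_le_step (⊤ : Subgroup (MulAut ↥P)) z1 F0 (by
    intro φ _
    rw [smul_eq]
    exact key (hstep1 φ).1 (hstep1 φ).2)
  obtain ⟨B2, m2, s2⟩ := card_le_step B1 z2 F1 (by
    intro φ hφ
    have f1 : φ z1 = z1 := ((m1 φ).1 hφ).2
    rw [smul_eq]
    exact key (hstep2 φ f1).1 (hstep2 φ f1).2)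
  obtain ⟨B3, m3, s3⟩ := card_le_step B2 z3 F2 (by
    intro φ hφ
    have hφ1 : φ ∈ B1 := ((m2 φ).1 hφ).1
    have f1 : φ z1 = z1 := ((m1 φ).1 hφ1).2
    have f2 : φ z2 = z2 := ((m2 φ).1 hφ).2
    rw [smul_eq]
    exact key (hstep3 φ f1 f2).1 (hstep3 φ f1 f2).2)
  have hB3 : Nat.card B3 = 1 := by
    have : B3 = ⊥ := by
      rw [eq_bot_iff]
      intro φ hφ
      have hφ2 : φ ∈ B2 := ((m3 φ).1 hφ).1
      have hφ1 : φ ∈ B1 := ((m2 φ).1 hφ2).1
      rw [Subgroup.mem_bot]
      exact haut φ ((m1 φ).1 hφ1).2 ((m2 φ).1 hφ2).2 ((m3 φ).1 hφ).2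
    rw [this]
    exact Subgroup.card_bot
  have hc0 : Nat.card (MulAut ↥P) = Nat.card (⊤ : Subgroup (MulAut ↥P)) := Subgroup.card_top.symm
  rw [hc0]
  rw [hB3, mul_one] at s3
  calc Nat.card (⊤ : Subgroup (MulAut ↥P)) ≤ F0.card * Nat.card B1 := s1
    _ ≤ F0.card * (F1.card * Nat.card B2) := Nat.mul_le_mul_left _ s2
    _ ≤ F0.card * (F1.card * F2.card) := Nat.mul_le_mul_left _ (Nat.mul_le_mul_left _ s3)
    _ ≤ N1 * (N2 * N3) := Nat.mul_le_mul k0 (Nat.mul_le_mul k1 k2)
    _ = N1 * N2 * N3 := (mul_assoc _ _ _).symm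

include hn in
/-- one step: the image of an involution, given the fixed elements, satisfies the tests -/
theorem step_of_cond (hinv : ∀ y : ↥P, y ^ 2 = 1 → y ≠ 1 → InFL forest (enc n y.1))
    {x : ↥P} (hx2 : x ^ 2 = 1) (hx1 : x ≠ 1) {fixed : List ↥P} {cfixed : List ℕ} (hfix : RegsOK P fixed cfixed)
    (φ : MulAut ↥P) (hφ : fixed.map φ = fixed) :
    InFL forest (enc n (φ x).1) ∧ ∀ (is : List (ℕ × ℕ)) (ts : List (ℕ × Bool)),
      condOf n is ts (enc n x.1 :: cfixed) = true → condOf n is ts (enc n (φ x).1 :: cfixed) = true := by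
  refine ⟨hinv _ (by rw [← map_pow, hx2, map_one]) (fun h => hx1 ((map_eq_one_iff φ φ.injective).1 h)), ?_⟩
  intro is ts hchk
  have tr := condOf_transfer hn φ (gs := x :: fixed) (gs' := φ x :: fixed)
    (cs := enc n x.1 :: cfixed) (cs' := enc n (φ x).1 :: cfixed)
    (List.Forall₂.cons rfl hfix) (List.Forall₂.cons rfl hfix)
    (by rw [List.map_cons, hφ]) is ts
  rw [← tr]; exact hchk

include hn in
/-- an automorphism fixing three elements from which the generators are obtained by a program is trivial -/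
theorem aut_eq_one_of_slp {a b : ↥P} (hgen : Subgroup.closure {a, b} = (⊤ : Subgroup ↥P))
    (slpG : List (ℕ × ℕ)) (ia ib : ℕ)
    (hA : (run n slpG [enc n z3.1, enc n z2.1, enc n z1.1]).getD ia (pone n) = enc n a.1)
    (hB : (run n slpG [enc n z3.1, enc n z2.1, enc n z1.1]).getD ib (pone n) = enc n b.1)
    (φ : MulAut ↥P) (f1 : φ z1 = z1) (f2 : φ z2 = z2) (f3 : φ z3 = z3) : φ = 1 := by
  have hregs : RegsOK P [z3, z2, z1] [enc n z3.1, enc n z2.1, enc n z1.1] :=
    List.Forall₂.cons rfl (List.Forall₂.cons rfl (List.Forall₂.cons rfl List.Forall₂.nil))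
  have hrun := hregs.run hn (is := slpG)
  have hfix : ∀ i, φ ((runM slpG [z3, z2, z1]).getD i 1) = (runM slpG [z3, z2, z1]).getD i 1 := by
    intro i
    have := List.getD_map (f := (φ : ↥P → ↥P)) (l := runM slpG [z3, z2, z1]) (n := i) (d := 1)
    rw [map_one] at this
    rw [← this]
    have e := map_runM φ.toMonoidHom slpG [z3, z2, z1]
    have e' : [z3, z2, z1].map φ.toMonoidHom = [z3, z2, z1] := by
      show [φ z3, φ z2, φ z1] = _
      rw [f1, f2, f3]
    rw [e'] at e
    exact congrArg (fun l => l.getD i 1) e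
  have eA : (runM slpG [z3, z2, z1]).getD ia 1 = a :=
    Subtype.ext (enc_injective hn ((hrun.getD ia).trans hA))
  have eB : (runM slpG [z3, z2, z1]).getD ib 1 = b :=
    Subtype.ext (enc_injective hn ((hrun.getD ib).trans hB))
  have fa : φ a = a := by rw [← eA]; exact hfix ia
  have fb : φ b = b := by rw [← eB]; exact hfix ib
  have hcomp : φ.toMonoidHom = MonoidHom.id ↥P := by
    apply MonoidHom.eq_of_eqOn_dense hgen
    intro x hx
    rcases hx with rfl | rfl
    · exact fa
    · exact fb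
  exact MulEquiv.ext fun x => congrArg (fun f : ↥P →* ↥P => f x) hcomp

end

end Cfsg.Agent.PG
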